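import Groth.Agent.EtDepth.K973.BidStmt
import Groth.Agent.EtDual.K336.BidStep
import Groth.Agent.Sga4h.EtPts

/-!
# Local duality over power series rings: interface

* `tpt M K`: the closed point of `Spec K[[x_1, …, x_M]]`; `Zc`: the inverse image of `t_* Λ` on `It (SP M K) N`;
* `DualP`: biduality and the two dualities on `It (SP M K) N`;
* `NodeSupp`: the bound on the supports of the cohomology sheaves of the dual;
* `NodeCore`, `NodeFin`: `Van`, `FinDepth` over the punctured spectra of power series rings.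
-/

set_option autoImplicit false
universe u
open CategoryTheory CategoryTheory.Limits AlgebraicGeometry Opposite
attribute [local instance 5000] CategoryTheory.Abelian.toPreadditive
  CategoryTheory.Preadditive.preadditiveHasZeroMorphisms
attribute [local instance] HasDerivedCategory.standard

namespace K973.CoreStmt

open scoped Groth.Agent.Sga4h.ModInst
open K973.Stmt K973.BidStmt Groth.Agent.Etdl.H434.Defs Groth.Agent.Sga4h.BidIndLoc48
  Groth.Agent.Sga4h.BidRed538Main Groth.Agent.Sga4h.BidGeoIt Groth.Agent.EtDual.K336.BidStep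

/-- The closed point of `Spec K[[x_1, …, x_M]]`. -/
noncomputable abbrev tpt (M : ℕ) (K : Type u) [Field K] : Spec (CommRingCat.of K) ⟶ SP M K :=
  Spec.map (CommRingCat.ofHom (MvPowerSeries.constantCoeff (σ := Fin M) (R := K)))

/-- `f⁻¹ t_* Λ` on `It (SP M K) N`. -/
noncomputable abbrev Zc (m M N : ℕ) (K : Type u) [Field K] : EtModW.Mod (Lam.{u} m) (It (SP M K) N) :=
  (EtModW.pull (Lam.{u} m) (str (SP M K) N)).obj ((EtModW.push (Lam.{u} m) (tpt M K)).obj
    (EtModW.constMod (Lam.{u} m) (Spec (CommRingCat.of K)) (Lam.{u} m)))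

/-- Biduality and the two dualities on `It (SP M K) N`. -/
structure DualP (m M N : ℕ) (K : Type u) [Field K] : Prop where
  bid : Bid (stdDual (Lam.{u} m) (It (SP M K) N))
  g : GData (stdDual (Lam.{u} m) (It (SP M K) N)) m
    ((CochainComplex.singleFunctor (EtModW.Mod (Lam.{u} m) (It (SP M K) N)) 0).obj (Zc m M N K)) (2 * N) (2 * M)

/-- The bound on the supports on `X` for the coefficients `ℤ/m`. -/
structure SuppBd (m : ℕ) (X : Scheme.{u}) : Prop where
  out : ∀ (F : EtModW.Mod (Lam.{u} m) X) (_ : EtModW.IsConstructible (Lam.{u} m) F) (v : X) (q e : ℕ)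
    (_ : ringKrullDim (X.presheaf.stalk v) = e)
    (_ : EtDepth.DepthAtGE X ((EtModD.forgetToAb (Lam.{u} m) X).obj F) v q) (p : ℤ) (_ : 2 * (e : ℤ) < p + q),
    IsZero ((Groth.Agent.Sga4h.EtPts.stk (Lam.{u} m) v).obj
      (((stdDual (Lam.{u} m) X).D ((CochainComplex.singleFunctor _ 0).obj F)).homology p))

/-- NODE SUPP: `H^p(D F)_v = 0` for `p > 2 dim O_v - depth_v F`. -/
def NodeSupp : Prop :=
  ∀ (m : ℕ) (_ : 0 < m) (M : ℕ) (K : Type u) [Field K] [IsAlgClosed K] [CharZero K] (X : Scheme.{u})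
    (f : X ⟶ SP M K) [Smooth f] [QuasiCompact f] [IsSeparated f] (c : ℕ)
    (_ : ∀ x : X, ringKrullDim (X.presheaf.stalk x) ≤ c) (_ : ∀ c' ≤ c, BidSP.{u} m c'), SuppBd m X

/-- NODE CORE: the vanishing over the punctured spectra of power series rings. -/
def NodeCore : Prop :=
  ∀ (m : ℕ) (_ : IsPrimePow m) (_ : NodeArt.{u})
    (_ : ∀ (M N : ℕ) (K : Type u) [Field K] [IsAlgClosed K] [CharZero K], DualP.{u} m M N K)
    (_ : ∀ (M N : ℕ) (K : Type u) [Field K] [IsAlgClosed K] [CharZero K],
      SuppBd.{u} m 𝔸(ULift.{u} (Fin N); SP M K)),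
    OnSP.{u} (fun S' => Van S' m)

/-- NODE FIN: the finiteness over the punctured spectra of power series rings. -/
def NodeFin : Prop :=
  ∀ (m : ℕ) (_ : IsPrimePow m)
    (_ : ∀ (M N : ℕ) (K : Type u) [Field K] [IsAlgClosed K] [CharZero K], DualP.{u} m M N K)
    (_ : ∀ (M N : ℕ) (K : Type u) [Field K] [IsAlgClosed K] [CharZero K],
      SuppBd.{u} m 𝔸(ULift.{u} (Fin N); SP M K)),
    OnSP.{u} (fun S' => FinDepth S' m)

end K973.CoreStmt
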