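import Groth.Agent.Sga4h.MuConst
import Groth.Agent.Etrest.ModAb
import Groth.Agent.Sga4h.TensorUnit
import Mathlib.RingTheory.RootsOfUnity.EnoughRootsOfUnity
import Mathlib.RingTheory.RootsOfUnity.AlgebraicallyClosed

/-!
# Triviality of the Tate twists over a strictly henselian local base

* `exists_isPrim`: a strictly henselian local ring with `m` invertible has a primitive `m`-th root of unity;
* `isKummer_const`: the constant sheaf is a Kummer sheaf on the schemes over its spectrum;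
* `nonempty_tensorPow_iso`: `Λ^{⊗ d} ≅ Λ`.
-/

set_option autoImplicit false
universe u

open CategoryTheory CategoryTheory.Limits AlgebraicGeometry Opposite Polynomial IsLocalRing

namespace K973.MuTriv

open Groth.Agent Groth.Agent.Sga4h.MuConst Groth.Agent.Etrest.ModAb

/-- A primitive root of unity. -/
theorem exists_isPrim (R : Type u) [CommRing R] (hR : EtCoh.IsStrictlyHenselianLocalRing R) (m : ℕ)
    (hm0 : m ≠ 0) (hm : IsUnit (m : R)) : ∃ ζ : Rˣ, IsPrim m ζ := by
  obtain ⟨_, _⟩ := hR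
  have hm1 : ((m : ℕ) : ResidueField R) ≠ 0 := by
    have := (hm.map (residue R)).ne_zero
    rwa [map_natCast] at this
  have h1 : NeZero ((m : ℕ) : ResidueField R) := ⟨hm1⟩
  obtain ⟨ζ₀, hζ₀⟩ := HasEnoughRootsOfUnity.exists_primitiveRoot (ResidueField R) m
  obtain ⟨a₀, ha₀⟩ := residue_surjective ζ₀
  obtain ⟨ζ, hζ1, hζ2⟩ := HenselianLocalRing.is_henselian (X ^ m - C 1 : R[X])
    (monic_X_pow_sub_C _ hm0) a₀ (by
      rw [← residue_eq_zero_iff, eval_sub, eval_pow, eval_X, eval_C, map_sub, map_pow, ha₀,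
        hζ₀.pow_eq_one, map_one, sub_self]) (by
      rw [derivative_sub, derivative_X_pow, derivative_C, sub_zero, eval_mul, eval_pow, eval_X]
      refine isUnit_of_map_unit (residue R) _ ?_
      rw [map_mul, map_pow, ha₀]
      simp only [map_natCast, eval_natCast]
      exact (IsUnit.mk0 _ hm1).mul ((hζ₀.isUnit hm0).pow _))
  have h2 : ζ ^ m = 1 := by
    have h2 : ζ ^ m - 1 = 0 := by simpa [IsRoot.def] using hζ1
    exact sub_eq_zero.1 h2
  have h3 : residue R ζ = ζ₀ := by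
    rw [← ha₀, ← sub_eq_zero, ← map_sub, residue_eq_zero_iff]
    exact hζ2
  obtain ⟨z, hz⟩ := IsUnit.of_pow_eq_one h2 hm0
  refine ⟨z, ⟨?_, fun k hk hk' => ?_⟩⟩
  · ext
    rw [Units.val_pow_eq_pow_val, hz, h2, Units.val_one]
  · rw [hz]
    refine isUnit_of_map_unit (residue R) _ ?_
    rw [map_sub, map_one, map_pow, h3]
    refine IsUnit.mk0 _ (sub_ne_zero.2 fun h => ?_)
    exact hζ₀.pow_ne_one_of_pos_of_lt hk.ne' hk' h.symm

/-- `ℤ/m ≅ μ_m` over a strictly henselian local ring. -/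
theorem nonempty_const_mu (R : Type u) [CommRing R] (hR : EtCoh.IsStrictlyHenselianLocalRing R) (m : ℕ)
    (hm0 : m ≠ 0) (hm : IsUnit (m : R)) {X : Scheme.{u}} (f : X ⟶ Spec (CommRingCat.of R)) :
    Nonempty (EtCoh.const X (ZMod m) ≅ EtCoh.mu X m) := by
  obtain ⟨ζ, hζ⟩ := exists_isPrim R hR m hm0 hm
  let φ : R →+* Γ(X, ⊤) := f.appTop.hom.comp (Scheme.ΓSpecIso (CommRingCat.of R)).inv.hom
  have h := hζ.map φ
  refine nonempty_iso m (Nat.pos_of_ne_zero hm0) ?_ (Units.map φ.toMonoidHom ζ) h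
  have := hm.map φ
  rwa [map_natCast] at this

variable {X : Scheme.{u}}

/-- A Kummer sheaf isomorphic to the constant sheaf. -/
theorem isKummer_const (m : ℕ) (h : Nonempty (EtCoh.const X (ZMod m) ≅ EtCoh.mu X m)) :
    EtModD.IsKummer m (EtModW.constMod (ULift.{u + 1} (ZMod m)) X (ULift.{u + 1} (ZMod m))) := by
  obtain ⟨e⟩ := h
  exact ⟨(constIso (ULift.{u + 1} (ZMod m)) X).app (ModuleCat.of _ _) ≪≫ e⟩

/-- Tensor powers of the unit. -/
theorem nonempty_tensorPow_iso (Λ : Type (u + 1)) [CommRing Λ] (X : Scheme.{u}) (d : ℕ) :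
    Nonempty (EtModD.tensorPow (EtModW.constMod Λ X Λ) d ≅ EtModW.constMod Λ X Λ) := by
  induction d with
  | zero => exact ⟨Iso.refl _⟩
  | succ d ih =>
    obtain ⟨e⟩ := ih
    exact ⟨((Sga4h.TensorUnit.tensorUnitRight Λ X).app _ :
      ((EtModD.tensorBi Λ X).obj (EtModD.tensorPow (EtModW.constMod Λ X Λ) d)).obj (EtModW.constMod Λ X Λ) ≅ _) ≪≫ e⟩

end K973.MuTriv
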