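import Groth.Agent.EtDepth.K973.PushAbs
import Groth.Agent.Sga4h.Dbc323
import Groth.Agent.Etdl.H423.Amp
import Groth.Agent.Etdl.H860.RDTri

/-!
# Derived functors and `D^b_c`

`isDbc_rd`: if the `R^q F` preserve constructible sheaves and vanish for `q > B`, then `R F` sends `D^b_c` to `D^b_c`.
-/

set_option autoImplicit false

universe u

open CategoryTheory CategoryTheory.Limits AlgebraicGeometry Pretriangulated

attribute [local instance] HasDerivedCategory.standard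

namespace K973.PushDbc

open Groth.Agent Groth.Agent.Etdl.H860 Groth.Agent.Sga4h.Dbc323

variable {Λ : Type (u + 1)} [CommRing Λ] {X S : Scheme.{u}}

/-- A distinguished triangle whose vertices are bounded below comes from `D^+`. -/
theorem exists_triangle {A : Type*} [Category* A] [Abelian A] [HasDerivedCategory A]
    (T : Triangle (DerivedCategory A)) (hT : T ∈ distTriang _)
    (h₁ : DerivedCategory.TStructure.t.plus T.obj₁) (h₂ : DerivedCategory.TStructure.t.plus T.obj₂)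
    (h₃ : DerivedCategory.TStructure.t.plus T.obj₃) :
    ∃ T' : Triangle (DerivedCategory.Plus A), T' ∈ distTriang _ ∧ T'.obj₁ = ⟨T.obj₁, h₁⟩ ∧
      T'.obj₂ = ⟨T.obj₂, h₂⟩ ∧ T'.obj₃ = ⟨T.obj₃, h₃⟩ := by
  let L₁ : DerivedCategory.Plus A := ⟨T.obj₁, h₁⟩
  let L₂ : DerivedCategory.Plus A := ⟨T.obj₂, h₂⟩
  let L₃ : DerivedCategory.Plus A := ⟨T.obj₃, h₃⟩
  let F := DerivedCategory.Plus.ι (C := A)
  let a : L₁ ⟶ L₂ := F.preimage (X := L₁) (Y := L₂) T.mor₁
  let b : L₂ ⟶ L₃ := F.preimage (X := L₂) (Y := L₃) T.mor₂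
  let c : L₃ ⟶ L₁⟦(1 : ℤ)⟧ := F.preimage (X := L₃) (Y := L₁⟦(1 : ℤ)⟧)
    (T.mor₃ ≫ (F.commShiftIso (1 : ℤ)).inv.app L₁)
  refine ⟨Triangle.mk a b c, ?_, rfl, rfl, rfl⟩
  rw [← F.map_distinguished_iff]
  refine isomorphic_distinguished _ hT _ ?_
  have ha : F.map a = T.mor₁ := F.map_preimage (X := L₁) (Y := L₂) T.mor₁
  have hb : F.map b = T.mor₂ := F.map_preimage (X := L₂) (Y := L₃) T.mor₂
  have hc : F.map c = T.mor₃ ≫ (F.commShiftIso (1 : ℤ)).inv.app L₁ :=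
    F.map_preimage (X := L₃) (Y := L₁⟦(1 : ℤ)⟧) (T.mor₃ ≫ (F.commShiftIso (1 : ℤ)).inv.app L₁)
  refine Triangle.isoMk _ _ (Iso.refl _) (Iso.refl _) (Iso.refl _) ?_ ?_ ?_
  · exact (Category.comp_id _).trans (ha.trans (Category.id_comp _).symm)
  · exact (Category.comp_id _).trans (hb.trans (Category.id_comp _).symm)
  · have h1 : (F.map c ≫ (F.commShiftIso (1 : ℤ)).hom.app L₁) = T.mor₃ := by
      rw [hc, Category.assoc, Iso.inv_hom_id_app]
      exact Category.comp_id _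
    refine Eq.trans ?_ (Category.id_comp _).symm
    refine Eq.trans ?_ h1
    refine Eq.trans (congrArg (fun t => (F.map c ≫ (F.commShiftIso (1 : ℤ)).hom.app L₁) ≫ t)
      ((shiftFunctor (DerivedCategory A) (1 : ℤ)).map_id (F.obj L₁))) ?_
    exact Category.comp_id _

theorem isDbc_rd [IsNoetherianRing Λ] (F : EtModW.Mod Λ X ⥤ EtModW.Mod Λ S) [F.Additive] [PreservesFiniteLimits F]
    (hc : ∀ G : EtModW.Mod Λ X, EtModW.IsConstructible Λ G → ∀ q : ℕ,
      EtModW.IsConstructible Λ ((F.rightDerived q).obj G)) (B : ℕ)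
    (hB : ∀ (G : EtModW.Mod Λ X) (q : ℕ), B < q → IsZero ((F.rightDerived q).obj G))
    (K : DerivedCategory.Plus (EtModW.Mod Λ X)) (hK : EtModD.IsDbc (DerivedCategory.Plus.ι.obj K)) :
    EtModD.IsDbc (DerivedCategory.Plus.ι.obj (F.rightDerivedFunctorPlus.obj K)) := by
  let Φ := F.rightDerivedFunctorPlus
  let P : EtModD.D Λ X → Prop := fun E => DerivedCategory.TStructure.t.plus E ∧
    ∀ L : DerivedCategory.Plus (EtModW.Mod Λ X), Nonempty (DerivedCategory.Plus.ι.obj L ≅ E) →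
      EtModD.IsDbc (DerivedCategory.Plus.ι.obj (Φ.obj L))
  suffices h : P (DerivedCategory.Plus.ι.obj K) from h.2 K ⟨Iso.refl _⟩
  refine isDbc_devissage P ?_ ?_ ?_ _ hK
  · rintro E E' e ⟨h1, h2⟩
    refine ⟨DerivedCategory.TStructure.t.plus.prop_of_iso e h1, fun L hL => ?_⟩
    obtain ⟨i⟩ := hL
    exact h2 L ⟨i ≪≫ e.symm⟩
  · intro G n hG
    refine ⟨⟨n, inferInstance⟩, fun L hL => ?_⟩
    obtain ⟨i⟩ := hL
    let S0 := (DerivedCategory.Plus.singleFunctor (EtModW.Mod Λ X) 0).obj G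
    let e0 : DerivedCategory.Plus.ι.obj L ≅ DerivedCategory.Plus.ι.obj (S0⟦-n⟧) :=
      i ≪≫ (((DerivedCategory.singleFunctors (EtModW.Mod Λ X)).shiftIso (-n) n 0 (by lia)).app G).symm ≪≫
        (K973.PushAbs.shiftι S0 (-n)).symm
    let e : L ≅ S0⟦-n⟧ := DerivedCategory.Plus.ι.preimageIso e0
    have h1 : EtModD.IsDbc (DerivedCategory.Plus.ι.obj (Φ.obj S0)) := by
      have i1 : DerivedCategory.Plus.ι.obj ((Etrest.RDer1.RG F).obj S0) ≅ DerivedCategory.Plus.ι.obj (Φ.obj S0) :=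
        (DerivedCategory.Plus.ι.mapIso ((Etrest.RDer1.RGIso F).app S0)).symm
      refine (EtModD.IsDbc : ObjectProperty (EtModD.D Λ S)).prop_of_iso i1 ?_
      have h2 := Etdl.H423.Amp.isGE_RG_single F G
      have h3 := Etdl.H423.Amp.isLE_RG_single F G B (hB G)
      refine ⟨⟨0, B, (DerivedCategory.Plus.isGE_ι_obj_iff _ _).2 h2,
        (DerivedCategory.Plus.isLE_ι_obj_iff _ _).2 h3⟩, fun q => ?_⟩
      by_cases hq : q < 0
      · exact isConstructible_of_isZero (((Etdl.H423.Amp.isGE_iff_homology _ 0).1 h2) q hq)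
      · obtain ⟨r, rfl⟩ : ∃ r : ℕ, q = r := ⟨q.toNat, by lia⟩
        exact Etrest.ModCons.isConstructible_of_iso ((Etrest.RDer1.hSingleIso F r).app G).symm (hc G hG r)
    have h2 : EtModD.IsDbc ((DerivedCategory.Plus.ι.obj (Φ.obj S0))⟦-n⟧) :=
      (EtModD.IsDbc : ObjectProperty (EtModD.D Λ S)).le_shift (-n) _ h1
    refine (EtModD.IsDbc : ObjectProperty (EtModD.D Λ S)).prop_of_iso ?_ h2
    exact (K973.PushAbs.shiftι (Φ.obj S0) (-n)).symm ≪≫
      DerivedCategory.Plus.ι.mapIso ((K973.PushAbs.rdShift F S0 (-n)).symm ≪≫ Φ.mapIso e.symm)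
  · rintro T hT ⟨p1, h1⟩ ⟨p3, h3⟩
    have p2 : DerivedCategory.TStructure.t.plus T.obj₂ :=
      DerivedCategory.TStructure.t.plus.ext_of_isTriangulatedClosed₂ T hT p1 p3
    refine ⟨p2, fun L hL => ?_⟩
    obtain ⟨i⟩ := hL
    obtain ⟨T', hT', e1, e2, e3⟩ := exists_triangle T hT p1 p2 p3
    have hd := DerivedCategory.Plus.ι.map_distinguished _ (Φ.map_distinguished _ hT')
    have d1 : EtModD.IsDbc (DerivedCategory.Plus.ι.obj (Φ.obj T'.obj₁)) := by
      rw [e1]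
      exact h1 _ ⟨Iso.refl _⟩
    have d3 : EtModD.IsDbc (DerivedCategory.Plus.ι.obj (Φ.obj T'.obj₃)) := by
      rw [e3]
      exact h3 _ ⟨Iso.refl _⟩
    have d2 := (EtModD.IsDbc : ObjectProperty (EtModD.D Λ S)).ext_of_isTriangulatedClosed₂ _ hd d1 d3
    have d2' : EtModD.IsDbc (DerivedCategory.Plus.ι.obj (Φ.obj T'.obj₂)) := d2
    rw [e2] at d2'
    refine (EtModD.IsDbc : ObjectProperty (EtModD.D Λ S)).prop_of_iso ?_ d2'
    exact DerivedCategory.Plus.ι.mapIso (Φ.mapIso (DerivedCategory.Plus.ι.preimageIso (X := ⟨T.obj₂, p2⟩) (Y := L) i.symm))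

end K973.PushDbc
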