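import Groth.Prelude.Def_EtDl
import Groth.Prelude.Def_EtDepth
import Groth.Prelude.Def_EtCore
import Groth.Prelude.Def_PBC
import Groth.Prelude.Def_FEt
import Groth.Prelude.Def_EGA4b
import Mathlib.AlgebraicGeometry.Morphisms.Proper
import Mathlib.RingTheory.Henselian
import Mathlib.Algebra.Algebra.Rat
import Mathlib.RingTheory.MvPowerSeries.Inverse
import Mathlib.FieldTheory.IsAlgClosed.Basic
import Mathlib.Topology.KrullDimension

/-!
# Local Lefschetz theorem over excellent henselian local rings of characteristic zero: interface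

* `HypVanish m K n`: `H^i(X, K) = 0` for `i < n`, `K ∈ D^+(X, ℤ/m)`.
* `Van S' m`: vanishing for the affine schemes of finite type over `S'` (depth condition on an open subscheme).
* `FinDepth S' m`: finiteness of the set of closed points of small depth.
-/

set_option autoImplicit false
universe u
open CategoryTheory CategoryTheory.Limits AlgebraicGeometry Opposite
attribute [local instance] HasDerivedCategory.standard

namespace K973.Stmt

/-- The coefficient ring `ℤ/m`. -/
abbrev Lam (m : ℕ) : Type (u + 1) := ULift.{u + 1} (ZMod m)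

/-- `H^i(X, K) = 0` for all `i < n`. -/
structure HypVanish (m : ℕ) {X : Scheme.{u}} (K : DerivedCategory.Plus (EtModW.Mod (Lam.{u} m) X)) (n : ℕ) : Prop where
  out : ∀ i : ℤ, i < n → Subsingleton ((DerivedCategory.Plus.singleFunctor (EtModW.Mod (Lam.{u} m) X) 0).obj
    (EtModW.constMod (Lam.{u} m) X (Lam.{u} m)) ⟶ K⟦i⟧)

/-- The depth hypothesis: `F` has étale depth `≥ n - dim cl(u)` at the points `u` of `W`. -/
structure DepthOn {X : Scheme.{u}} (F : EtCoh.Ab X) (W : X.Opens) (n : ℕ) : Prop where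
  out : ∀ u : X, u ∈ W → ∀ d : ℕ, topologicalKrullDim ↥(closure ({u} : Set X)) = (d : WithBot ℕ∞) →
    EtDepth.DepthAtGE X F u (n - d)

/-- `R κ_* κ^* G` for the inclusion `κ` of the open subscheme `W`. -/
noncomputable abbrev openPush (m : ℕ) {X : Scheme.{u}} (W : X.Opens) (G : EtModW.Mod (Lam.{u} m) X) :
    DerivedCategory.Plus (EtModW.Mod (Lam.{u} m) X) :=
  (EtDl.pushPlus (Lam.{u} m) W.ι).obj ((DerivedCategory.Plus.singleFunctor (EtModW.Mod (Lam.{u} m) W.toScheme) 0).obj
    ((EtModW.pull (Lam.{u} m) W.ι).obj G))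

/-- **The vanishing theorem over `S'`**: for `f : L ⟶ S'` of finite type, `L` affine, `κ : W ⟶ L` open, `G` a constructible
sheaf of `ℤ/m`-modules on `L` of depth `≥ n - dim cl(u)` at all points `u ∈ W`: `H^i(S', Rf_! Rκ_* κ^* G) = 0` for
`i < n`. -/
def Van (S' : Scheme.{u}) (m : ℕ) : Prop :=
  ∀ {L : Scheme.{u}} [IsAffine L] (f : L ⟶ S') [LocallyOfFiniteType f] (c : DEt.Compactification f) (W : L.Opens)
    (G : EtModW.Mod (Lam.{u} m) L) (_ : EtModW.IsConstructible (Lam.{u} m) G) (n : ℕ)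
    (_ : DepthOn ((EtModD.forgetToAb (Lam.{u} m) L).obj G) W n),
    HypVanish m ((EtDl.RshriekPlus (Lam.{u} m) c).obj (openPush m W G)) n

/-- **Finiteness of the set of closed points of small depth over `S'`**. -/
def FinDepth (S' : Scheme.{u}) (m : ℕ) : Prop :=
  ∀ {L : Scheme.{u}} [IsAffine L] (f : L ⟶ S') [LocallyOfFiniteType f]
    (G : EtModW.Mod (Lam.{u} m) L) (_ : EtModW.IsConstructible (Lam.{u} m) G) (n : ℕ)
    (_ : ∀ (u : L) (d : ℕ), 0 < d → topologicalKrullDim ↥(closure ({u} : Set L)) = (d : WithBot ℕ∞) →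
      EtDepth.DepthAtGE L ((EtModD.forgetToAb (Lam.{u} m) L).obj G) u (n - d)),
    {u : L | topologicalKrullDim ↥(closure ({u} : Set L)) = 0 ∧
      ¬ EtDepth.DepthAtGE L ((EtModD.forgetToAb (Lam.{u} m) L).obj G) u n}.Finite

/-- The conclusion of the Lefschetz theorem for the open neighbourhood `W` of `𝓨`. -/
def Concl {X : Scheme.{u}} (𝓨 : X.IdealSheafData) (F : EtCoh.Ab X) (c n : ℕ) (W : X.Opens) : Prop :=
  ∀ (i : 𝓨.subscheme ⟶ (W : Scheme.{u})) [EtCoh.BCCont i] [PreservesFiniteLimits (EtCoh.pull i)],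
    i ≫ W.ι = 𝓨.subschemeι →
    (∀ k : ℕ, k + c + 1 < n → Function.Bijective (EtCore.Hpull i ((EtCoh.pull W.ι).obj F) k)) ∧
    (∀ k : ℕ, k + c + 1 = n → Function.Injective (EtCore.Hpull i ((EtCoh.pull W.ι).obj F) k))

/-- NODE L1: the Lefschetz theorem for `W` from `Van`. -/
def NodeL1 : Prop :=
  ∀ (A : Type u) [CommRing A] [IsLocalRing A] [IsNoetherianRing A] (_ : EGA4.IsExcellent A) (m : ℕ) (_ : 0 < m)
    (_ : Van (FEt.puncturedSpec A : Scheme.{u}) m) (X : Scheme.{u}) (g : X ⟶ (FEt.puncturedSpec A : Scheme.{u}))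
    [IsProper g] (c : ℕ) (V : Fin (c + 1) → X.Opens) (_ : ∀ i, IsAffineOpen (V i)) (𝓨 : X.IdealSheafData)
    (_ : (𝓨.support : Set X) = (((⨆ i, V i) : X.Opens) : Set X)ᶜ) (F : EtCoh.Ab X) (_ : EtCoh.KilledBy m F)
    (_ : EtPBC.IsConstructible F) (n : ℕ) (W : X.Opens) (_ : (𝓨.support : Set X) ⊆ (W : Set X))
    (_ : DepthOn F ((⨆ i, V i) ⊓ W) n), Concl 𝓨 F c n W

/-- The property `P` of the punctured spectra of complete local rings with algebraically closed residue field. -/
def OnComplete (P : Scheme.{u} → Prop) : Prop :=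
  ∀ (B : Type u) [CommRing B] [IsLocalRing B] [IsNoetherianRing B] [IsAdicComplete (IsLocalRing.maximalIdeal B) B]
    [Algebra ℚ B] [IsAlgClosed (IsLocalRing.ResidueField B)], P (FEt.puncturedSpec B : Scheme.{u})

/-- NODE L2: from complete rings to excellent henselian local rings. -/
def NodeL2 : Prop :=
  ∀ (A : Type u) [CommRing A] [IsLocalRing A] [IsNoetherianRing A] [HenselianLocalRing A] [Algebra ℚ A]
    (_ : EGA4.IsExcellent A) (m : ℕ) (_ : 0 < m),
    (OnComplete.{u} (fun S' => Van S' m) → Van (FEt.puncturedSpec A : Scheme.{u}) m) ∧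
    (OnComplete.{u} (fun S' => FinDepth S' m) → FinDepth (FEt.puncturedSpec A : Scheme.{u}) m)

/-- The property `P` of the punctured spectra of power series rings over algebraically closed fields of
characteristic zero. -/
def OnSP (P : Scheme.{u} → Prop) : Prop :=
  ∀ (K : Type u) [Field K] [IsAlgClosed K] [CharZero K] (M : ℕ),
    P (FEt.puncturedSpec (MvPowerSeries (Fin M) K) : Scheme.{u})

/-- NODE L3: from power series rings to complete rings. -/
def NodeL3 : Prop :=
  ∀ (m : ℕ) (_ : 0 < m),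
    (OnSP.{u} (fun S' => Van S' m) → OnComplete.{u} (fun S' => Van S' m)) ∧
    (OnSP.{u} (fun S' => FinDepth S' m) → OnComplete.{u} (fun S' => FinDepth S' m))

/-- NODE ART: Artin vanishing on affine spaces over excellent strictly henselian local rings of characteristic zero. -/
def NodeArt : Prop :=
  ∀ (A : Type u) [CommRing A] [IsLocalRing A] [IsNoetherianRing A] [HenselianLocalRing A]
    [IsSepClosed (IsLocalRing.ResidueField A)] [Algebra ℚ A] (_ : EGA4.IsExcellent A) (N m : ℕ) (_ : 0 < m)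
    (F : EtCoh.Ab 𝔸(ULift.{u} (Fin N); Spec (CommRingCat.of A))) (_ : EtCoh.KilledBy m F)
    (_ : EtPBC.IsConstructible F) (D : ℕ)
    (_ : ∀ v : 𝔸(ULift.{u} (Fin N); Spec (CommRingCat.of A)), v ∈ EtPBC.supp F → ∀ a b : ℕ,
      ringKrullDim (A ⧸ ((𝔸(ULift.{u} (Fin N); Spec (CommRingCat.of A)) ↘ Spec (CommRingCat.of A)) v).asIdeal) = a →
      (letI := ((𝔸(ULift.{u} (Fin N); Spec (CommRingCat.of A)) ↘ Spec (CommRingCat.of A)).residueFieldMap v).hom.toAlgebra
       Algebra.trdeg ((Spec (CommRingCat.of A)).residueField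
        ((𝔸(ULift.{u} (Fin N); Spec (CommRingCat.of A)) ↘ Spec (CommRingCat.of A)) v))
        (𝔸(ULift.{u} (Fin N); Spec (CommRingCat.of A)).residueField v) = b) → a + b ≤ D)
    (q : ℕ) (_ : D < q), Subsingleton (EtCoh.H 𝔸(ULift.{u} (Fin N); Spec (CommRingCat.of A)) F q)

end K973.Stmt
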