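import Groth.Agent.EtDepth.K973.Stmt
import Groth.Agent.Sga4h.BidIndLoc48
import Groth.Agent.Sga4h.BidRed538Main
import Groth.Agent.Sga4h.BidGeoIt
import Groth.Agent.Etdl.H434.Defs

/-!
# Biduality over power series rings: interface

* `BidSP m c`: biduality on `Spec K[[x_1, …, x_c]]`, `K` algebraically closed of characteristic zero;
* `NodeHull`: biduality on smooth schemes over `Spec K[[x_1, …, x_M]]` from `BidSP m c'`, `c'` at most the bound of the
  dimensions of the local rings;
* `NodeAlg`: `BidSP m (M + 1)` from the biduality on the projective line over `Spec K[[x_1, …, x_M]]`.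
-/

set_option autoImplicit false
universe u
open CategoryTheory CategoryTheory.Limits AlgebraicGeometry Opposite
attribute [local instance 5000] CategoryTheory.Abelian.toPreadditive
  CategoryTheory.Preadditive.preadditiveHasZeroMorphisms
attribute [local instance] HasDerivedCategory.standard

namespace K973.BidStmt

open scoped Groth.Agent.Sga4h.ModInst
open K973.Stmt Groth.Agent.Etdl.H434.Defs Groth.Agent.Sga4h.BidIndLoc48 Groth.Agent.Sga4h.BidRed538Main
  Groth.Agent.Sga4h.BidGeoIt

/-- Biduality on `Spec K[[x_1, …, x_c]]`. -/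
def BidSP (m c : ℕ) : Prop :=
  ∀ (K : Type u) [Field K] [IsAlgClosed K] [CharZero K], Bid (stdDual (Lam.{u} m) (SP c K))

/-- NODE HULL. -/
def NodeHull : Prop :=
  ∀ (m : ℕ) (_ : 0 < m) (M : ℕ) (K : Type u) [Field K] [IsAlgClosed K] [CharZero K] (X : Scheme.{u})
    (f : X ⟶ SP M K) [Smooth f] [QuasiCompact f] [IsSeparated f] (c : ℕ)
    (_ : ∀ x : X, ringKrullDim (X.presheaf.stalk x) ≤ c) (_ : ∀ c' ≤ c, BidSP.{u} m c'),
    Bid (stdDual (Lam.{u} m) X)

/-- NODE ALG. -/
def NodeAlg : Prop :=
  ∀ (m : ℕ) (_ : 0 < m) (M : ℕ)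
    (_ : ∀ (K : Type u) [Field K] [IsAlgClosed K] [CharZero K], Bid (stdDual (Lam.{u} m) (It (SP M K) 1))),
    BidSP.{u} m (M + 1)

end K973.BidStmt
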