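import Groth.Agent.Sga4h.BidCmp538
import Groth.Agent.EtpbcB.BCMor

/-!
# Comparison of duality along morphisms satisfying base change for torsion sheaves

`GoodT n g`: base change along `g` for the direct images of étale quasi-compact quasi-separated morphisms, for the
sheaves killed by `n`.
* `goodT_of_bcMor`: consequence of `EtpbcB.BCU.BCMor`;
* `loc`: the standard duality data satisfy `BidLoc48.Loc` along `g`.
-/

set_option autoImplicit false

universe u

open CategoryTheory CategoryTheory.Limits AlgebraicGeometry MonoidalCategory Opposite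

attribute [local instance 5000] CategoryTheory.Abelian.toPreadditive
  CategoryTheory.Preadditive.preadditiveHasZeroMorphisms

namespace K973.RegCmp

open Groth.Agent Groth.Agent.Sga4h
open Groth.Agent.Sga4h.BidLimRep Groth.Agent.Sga4h.BidLimAb Groth.Agent.Sga4h.BidLimHom
  Groth.Agent.Sga4h.BidLimTheta
open Groth.Agent.EtpbcB Groth.Agent.Etrest.ModAb Groth.Agent.Etrest

/-- Base change along `g` of the direct images of étale quasi-compact quasi-separated morphisms, for the sheaves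
killed by `n`: degree zero and acyclicity. -/
structure GoodT (n : ℕ) {X Y : Scheme.{u}} (g : Y ⟶ X) : Prop where
  bc : ∀ (U : X.Etale) [QuasiCompact U.hom] [QuasiSeparated U.hom] (M : EtCoh.Ab U.left), EtCoh.KilledBy n M →
    IsIso (EtCoh.baseChange0 U.hom g ((EtCoh.bc g).obj U).hom (gU g U) (isPullback_gU g U).w M)
  acyc : ∀ (U : X.Etale) [QuasiCompact U.hom] [QuasiSeparated U.hom] (M : EtCoh.Ab U.left),
    EtCoh.KilledBy n M → ∀ q : ℕ, IsZero ((EtCoh.Rpush U.hom q).obj M) →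
      IsZero ((EtCoh.Rpush ((EtCoh.bc g).obj U).hom q).obj ((EtCoh.pull (gU g U)).obj M))

theorem isTorsionInvertibleOn_of_killedBy {S : Scheme.{u}} {n : ℕ} (hn : IsUnit (n : Γ(S, ⊤))) {T : Scheme.{u}}
    {F : EtCoh.Ab T} (hF : EtCoh.KilledBy n F) : EtPBC.IsTorsionInvertibleOn S F :=
  fun U s x => ⟨U, 𝟙 U, n, ⟨x, rfl⟩, hn, by rw [op_id, CategoryTheory.Functor.map_id]; exact hF U s⟩

theorem goodT_of_bcMor {S : Scheme.{u}} {n : ℕ} (hn : IsUnit (n : Γ(S, ⊤))) {X Y : Scheme.{u}} {g : Y ⟶ X}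
    (hg : BCU.BCMor S g) : GoodT n g := by
  refine ⟨fun U _ _ M hM => ?_, fun U _ _ M hM q h0 => ?_⟩
  · exact (hg U.hom ((EtCoh.bc g).obj U).hom (gU g U) (isPullback_gU g U) M
      (isTorsionInvertibleOn_of_killedBy hn hM)).2
  · obtain ⟨i⟩ := (hg U.hom ((EtCoh.bc g).obj U).hom (gU g U) (isPullback_gU g U) M
      (isTorsionInvertibleOn_of_killedBy hn hM)).1 q
    exact ((EtCoh.pull g).map_isZero h0).of_iso i.symm

variable {Λ : Type (u + 1)} [CommRing Λ] {X Y : Scheme.{u}} {n : ℕ}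

theorem killedBy_ab (hΛ : (n : Λ) = 0) (F : EtModW.Mod Λ X) : EtCoh.KilledBy n ((ab Λ X).obj F) := by
  intro U s
  let s' : EtModW.sect Λ F U := s
  have h : n • s' = 0 := by
    rw [← Nat.cast_smul_eq_nsmul Λ, hΛ, zero_smul]
  exact h

/-- Acyclicity of `g⁻¹ I` restricted to `U ×_X Y` for the direct image to `Y`. -/
theorem isAcyc_pull (hΛ : (n : Λ) = 0) {g : Y ⟶ X} (hg : GoodT n g) (U : X.Etale) [QuasiCompact U.hom]
    [QuasiSeparated U.hom] (I : EtModW.Mod Λ X) [Injective I] :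
    RDer2.IsAcyc (EtModW.push Λ ((EtCoh.bc g).obj U).hom)
      ((ModRestr.res Λ ((EtCoh.bc g).obj U).hom).obj ((EtModW.pull Λ g).obj I)) := by
  intro q
  have h1 : Injective ((ModRestr.res Λ U.hom).obj I) := ModRestr.injective_res Λ U.hom I
  have h2 : IsZero ((EtCoh.Rpush U.hom (q + 1)).obj ((ab Λ U.left).obj ((ModRestr.res Λ U.hom).obj I))) :=
    acyclic_ab Λ ((ModRestr.res Λ U.hom).obj I) U.hom (q + 1) (by lia)
  have h3 := hg.acyc U _ (killedBy_ab hΛ _) _ h2
  refine BidLimAcyc.isZero_of_ab ?_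
  refine IsZero.of_iso ?_ ((rpushIso Λ ((EtCoh.bc g).obj U).hom (q + 1)).app _)
  refine h3.of_iso ((EtCoh.Rpush ((EtCoh.bc g).obj U).hom (q + 1)).mapIso ?_)
  exact (ab Λ _).mapIso ((lam g U Λ).app I).symm ≪≫ (pullIso Λ (gU g U)).app ((ModRestr.res Λ U.hom).obj I)

open scoped Groth.Agent.Sga4h.ModInst Groth.Agent.Sga4h.BidLimAcyc

/-- `Hom(g⁻¹ F, -)` sends the quasi-isomorphism `g⁻¹ J ⟶ J'` to a quasi-isomorphism. -/
theorem quasiIso_homShF (hΛ : (n : Λ) = 0) {g : Y ⟶ X} (hg : GoodT n g) (U : X.Etale) [QuasiCompact U.hom]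
    [QuasiSeparated U.hom]
    {F : EtModW.Mod Λ X} {δ : F.obj.obj (op U)} (hF : Rep U F δ)
    {J : CochainComplex (EtModW.Mod Λ X) ℤ} {J' : CochainComplex (EtModW.Mod Λ Y) ℤ} (a b : ℤ)
    [J.IsStrictlyGE a] [J'.IsStrictlyGE b] (hJ : ∀ n, Injective (J.X n)) (hJ' : ∀ n, Injective (J'.X n))
    (α : ((EtModW.pull Λ g).mapHomologicalComplex (ComplexShape.up ℤ)).obj J ⟶ J') [QuasiIso α] :
    QuasiIso (((HomSh.homShF ((EtModW.pull Λ g).obj F)).mapHomologicalComplex (ComplexShape.up ℤ)).map α) := by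
  let R := ModRestr.res Λ ((EtCoh.bc g).obj U).hom
  let P := EtModW.push Λ ((EtCoh.bc g).obj U).hom
  have h1 : QuasiIso ((R.mapHomologicalComplex (ComplexShape.up ℤ)).map α) := inferInstance
  have i1 : CochainComplex.IsStrictlyGE ((R.mapHomologicalComplex (ComplexShape.up ℤ)).obj
    (((EtModW.pull Λ g).mapHomologicalComplex (ComplexShape.up ℤ)).obj J)) a := inferInstance
  have i2 : CochainComplex.IsStrictlyGE ((R.mapHomologicalComplex (ComplexShape.up ℤ)).obj J') b := inferInstance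
  have h2 : QuasiIso ((P.mapHomologicalComplex (ComplexShape.up ℤ)).map
      ((R.mapHomologicalComplex (ComplexShape.up ℤ)).map α)) := by
    refine RDer2.quasiIso_map P _ a b (fun i => ?_) (fun i => ?_)
    · have := hJ i
      exact isAcyc_pull hΛ hg U (J.X i)
    · have := hJ' i
      have : Injective (R.obj (J'.X i)) := ModRestr.injective_res Λ _ (J'.X i)
      exact RDer2.isAcyc_of_injective P (R.obj (J'.X i))
  let e := NatIso.mapHomologicalComplex (psiIso (hF.pull g)) (ComplexShape.up ℤ)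
  have h3 : ((HomSh.homShF ((EtModW.pull Λ g).obj F)).mapHomologicalComplex (ComplexShape.up ℤ)).map α ≫
      e.hom.app J' = e.hom.app _ ≫ ((R ⋙ P).mapHomologicalComplex (ComplexShape.up ℤ)).map α :=
    e.hom.naturality α
  have h4 : QuasiIso (((R ⋙ P).mapHomologicalComplex (ComplexShape.up ℤ)).map α) := h2
  have h5 : QuasiIso (((HomSh.homShF ((EtModW.pull Λ g).obj F)).mapHomologicalComplex
      (ComplexShape.up ℤ)).map α ≫ e.hom.app J') := by
    rw [h3]
    infer_instance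
  exact quasiIso_of_comp_right _ (e.hom.app J')

open BidCmp538LM in
/-- The hypotheses of `BidLimSingle.quasiIso_cmp_single` for a sheaf representing sections over `U`. -/
theorem exists_data (g : Y ⟶ X) (hΛ : (n : Λ) = 0) (hg : GoodT n g) (U : X.Etale) [QuasiCompact U.hom]
    [QuasiSeparated U.hom]
    {F : EtModW.Mod Λ X} {δ : F.obj.obj (op U)} (hF : Rep U F δ)
    {J : CochainComplex (EtModW.Mod Λ X) ℤ} {J' : CochainComplex (EtModW.Mod Λ Y) ℤ} (a b : ℤ)
    [J.IsStrictlyGE a] [J'.IsStrictlyGE b] (hJ : ∀ n, Injective (J.X n)) (hJ' : ∀ n, Injective (J'.X n))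
    (α : ((EtModW.pull Λ g).mapHomologicalComplex (ComplexShape.up ℤ)).obj J ⟶ J') [QuasiIso α] :
    ∃ (R : EtModW.Mod Λ X ⥤ EtModW.Mod Λ X) (_ : R.Additive) (adj : (EtModD.tensorBi Λ X).flip.obj F ⊣ R)
      (R' : EtModW.Mod Λ Y ⥤ EtModW.Mod Λ Y) (_ : R'.Additive)
      (adj' : (EtModD.tensorBi Λ Y).flip.obj ((EtModW.pull Λ g).obj F) ⊣ R'),
      (∀ n, IsIso (BidLimSingle.thetaOf (a := EtModW.pull Λ g) (BidTens.pullTensor Λ g).inv adj adj' (J.X n))) ∧
        QuasiIso ((R'.mapHomologicalComplex (ComplexShape.up ℤ)).map α) := by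
  refine ⟨HomSh.homShF F, inferInstance, adjF F, HomSh.homShF ((EtModW.pull Λ g).obj F), inferInstance,
    adjF ((EtModW.pull Λ g).obj F), fun n => ?_, quasiIso_homShF hΛ hg U hF a b hJ hJ' α⟩
  rw [thetaOf_eq]
  exact isIso_theta g U hF (J.X n) (hg.bc U _ (killedBy_ab hΛ _))

attribute [local instance] HasDerivedCategory.standard
open Groth.Agent.Sga4h.Refl DerivedCategory BidIndLoc48 BidRed538Main BidCmp538LM BidLimAcyc BidTens

/-- The comparison map is a quasi-isomorphism on `D^b_c`, for bounded below dualizing complexes. -/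
theorem qis [IsNoetherianRing Λ] [IsNoetherian X] {g : Y ⟶ X} (hΛ : (n : Λ) = 0) (hg : GoodT n g)
    (A : DualData (EtModD.tensorBi Λ X)) (A' : DualData (EtModD.tensorBi Λ Y)) (a b : ℤ)
    [A.J.IsStrictlyGE a] [A'.J.IsStrictlyGE b]
    (α : ((EtModW.pull Λ g).mapHomologicalComplex (ComplexShape.up ℤ)).obj A.J ⟶ A'.J) [QuasiIso α]
    (E : CochainComplex (EtModW.Mod Λ X) ℤ) (hE : EtModD.IsDbc (Q.obj E)) :
    QuasiIso (BidCmp.cmp (R := EtModW.pull Λ g) (pullTensor Λ g).inv α E) := by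
  refine BidCmpAbs538.qis_of_way (a := EtModW.pull Λ g) (pullTensor Λ g).inv A A' α
    (fun M => EtModW.IsConstructible Λ M) (fun M => ∃ U : X.Etale, IsAffine U.left ∧ M = Etcore.LFree.LM Λ U)
    (fun E => EtModD.IsDbc (Q.obj E)) a b ?_ ?_ E hE
  · intro F G _ _ η hF hG hF' hG' N hFN hGN h E hE
    exact LamPres857.quasiIso_of_LM η hF hG hF' hG' N hFN hGN (fun U hU => h _ ⟨U, hU, rfl⟩) E hE
  · rintro _ ⟨U, hU, rfl⟩
    have : QuasiCompact U.hom := quasiCompact_of_compactSpace (X := U.left) (Y := X) _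
    have h0 : QuasiSeparatedSpace U.left := inferInstance
    have : QuasiSeparated U.hom := QuasiSeparated.of_quasiSeparatedSpace (X := U.left) (Y := X) _
    exact exists_data g hΛ hg U (BidLimRep.rep_LM U) a b A.inj A'.inj α

/-- The local conclusions of the comparison of duality (auxiliary form). -/
theorem loc_aux [IsNoetherianRing Λ] {X Y : Scheme.{u}} [IsNoetherian X] {g : Y ⟶ X} (hΛ : (n : Λ) = 0)
    (hg : GoodT n g)
    (A : DualData (EtModD.tensorBi Λ X)) (A' : DualData (EtModD.tensorBi Λ Y))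
    (hA : A.J.IsStrictlyGE 0) (hA' : A'.J.IsStrictlyGE 0)
    (α : ((EtModW.pull Λ g).mapHomologicalComplex (ComplexShape.up ℤ)).obj A.J ⟶ A'.J) (hα : QuasiIso α)
    (B : DualData (EtModD.tensorBi Λ X)) (B' : DualData (EtModD.tensorBi Λ Y))
    (hσ : ∀ M N : EtModW.Mod Λ X, (B'.S.σ ((EtModW.pull Λ g).obj M) ((EtModW.pull Λ g).obj N)).hom ≫
      ((pullTensor Λ g).inv.app M).app N =
        ((pullTensor Λ g).inv.app N).app M ≫ (EtModW.pull Λ g).map (B.S.σ M N).hom)
    (p : B.J ⟶ A.J) (hp : QuasiIso p) (p' : A'.J ⟶ B'.J) (hp' : QuasiIso p') :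
    (∀ K : CochainComplex (EtModW.Mod Λ X) ℤ, EtModD.IsDbc (Q.obj K) → ∀ q : ℤ,
      Nonempty ((EtModW.pull Λ g).obj ((B.D K).homology q) ≅ (B'.D ((R g).obj K)).homology q)) ∧
    (∀ K : CochainComplex (EtModW.Mod Λ X) ℤ, EtModD.IsDbc (Q.obj K) → EtModD.IsDbc (Q.obj (B.D K)) →
      B'.Refl ((R g).obj K) → ∀ q : ℤ,
      IsIso ((EtModW.pull Λ g).map (HomologicalComplex.homologyMap (B.ev K) q))) :=
  BidCmpLoc538.exists_loc (a := EtModW.pull Λ g) (pullTensor Λ g).inv A A' α B B' hσ p hp p' hp'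
    (fun E => EtModD.IsDbc (Q.obj E)) (fun E hE => qis hΛ hg A A' 0 0 α E hE) (R g) rfl

/-- **The local conclusions of the comparison of duality** along a morphism satisfying base change, for the standard
duality data. -/
theorem loc [IsNoetherianRing Λ] {X Y : Scheme.{u}} (g : Y ⟶ X) (hX : IsNoetherian X) (hΛ : (n : Λ) = 0)
    (hg : GoodT n g) : BidLoc48.Loc (stdDual Λ X) (stdDual Λ Y) g := by
  obtain ⟨J, i, h1, h2, h3, h4⟩ := BidCmp538.exists_bdd (Λ := Λ) X
  obtain ⟨J', i', h1', h2', h3', h4'⟩ := BidCmp538.exists_bdd (Λ := Λ) Y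
  obtain ⟨α, hα⟩ := BidCmp538.exists_alpha g i i'
  obtain ⟨p, hp⟩ := BidEtCmp.exists_quasiIso_of_resolution (stdι Λ X) i
  have := isKInjective_stdJ Λ Y
  obtain ⟨p', hp'⟩ := BidEtCmp.exists_quasiIso_of_resolution i' (stdι Λ Y)
  obtain ⟨A, rfl⟩ : ∃ A : DualData (EtModD.tensorBi Λ X), A.J = J := ⟨DualEt.dualData J h2 h3, rfl⟩
  obtain ⟨A', rfl⟩ : ∃ A' : DualData (EtModD.tensorBi Λ Y), A'.J = J' := ⟨DualEt.dualData J' h2' h3', rfl⟩
  obtain ⟨a, b⟩ := loc_aux hΛ hg A A' h1 h1' α hα (stdDual Λ X) (stdDual Λ Y)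
    (fun M N => pullTensor_inv_flip g M N) p hp p' hp'
  exact ⟨a, b⟩

/-- The same for a morphism with `BCMor`. -/
theorem loc_of_bcMor [IsNoetherianRing Λ] {S X Y : Scheme.{u}} (g : Y ⟶ X) (hX : IsNoetherian X)
    (hn : IsUnit (n : Γ(S, ⊤))) (hΛ : (n : Λ) = 0) (hg : BCU.BCMor S g) :
    BidLoc48.Loc (stdDual Λ X) (stdDual Λ Y) g :=
  loc g hX hΛ (goodT_of_bcMor hn hg)

end K973.RegCmp
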