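import Groth.Agent.EtDual.K336.BidStepAbs
import Groth.Agent.Sga4h.LamPres857
import Groth.Agent.Sga4h.BidIndLoc48
import Groth.Agent.Sga4h.DbcDual323
import Groth.Agent.Sga4h.BidPtRefl

/-!
# Biduality from the sheaves `Λ[U]` and uniform bounds

* `isLE_D_of_homology`: the amplitude of `D E` from the amplitude of the `D (H^i(E)[0])`;
* `bid_of_LM`: biduality on `X` noetherian, if `Λ[U]` is reflexive for `U` affine étale over `X`, and `D (F[0])` is
  constructible and uniformly bounded above for `F` constructible.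
-/

set_option autoImplicit false
set_option backward.defeqAttrib.useBackward true
set_option backward.isDefEq.respectTransparency false

universe w v₁ u₁ u

open CategoryTheory CategoryTheory.Limits AlgebraicGeometry ZeroObject Opposite

attribute [local instance 5000] CategoryTheory.Abelian.toPreadditive
  CategoryTheory.Preadditive.preadditiveHasZeroMorphisms

namespace K973.WayRefl

open Groth.Agent Groth.Agent.Sga4h

section Abs

open HomologicalComplex CochainComplex
open Groth.Agent.Dcoh.CxFun Groth.Agent.Sga4h.HomCx Groth.Agent.Sga4h.DualCx Groth.Agent.Sga4h.DualSelf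
open Groth.Agent.Sga4h.Refl Groth.Agent.Sga4h.BidWay

variable {C : Type u₁} [Category.{v₁} C] [Abelian C] {T : C ⥤ C ⥤ C} [T.Additive] [∀ X, (T.obj X).Additive]
  [∀ (K₁ K₂ : CochainComplex C ℤ), CochainComplex.HasMapBifunctor K₁ K₂ T]
  [∀ E : CochainComplex C ℤ, (T.map₂CochainComplex.flip.obj E).IsLeftAdjoint]
  [∀ (J : Type), HasColimitsOfShape (Discrete J) C]
  [∀ (J : Type), (colim : (Discrete J ⥤ C) ⥤ C).PreservesMonomorphisms] (A : DualData T)

theorem isLE_iff_of_quasiIso {K L : CochainComplex C ℤ} (f : K ⟶ L) [QuasiIso f] (d : ℤ) :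
    (A.D K).IsLE d ↔ (A.D L).IsLE d :=
  (isSupported_iff_of_quasiIso (A.Dmap f) (ComplexShape.embeddingUpIntLE d)).symm

theorem isLE_D_of_acyclic {K : CochainComplex C ℤ} (hK : K.Acyclic) (d : ℤ) : (A.D K).IsLE d := by
  rw [isLE_iff]
  intro i _
  exact A.acyclic_D hK i

/-- The amplitude of the dual of a shift. -/
theorem isLE_D_shift [HasDerivedCategory.{w} C] (K : CochainComplex C ℤ) (i d e : ℤ) (he : e + i = d)
    (h : (A.D K).IsLE d) : (A.D (K⟦-i⟧)).IsLE e := by
  obtain ⟨f⟩ := Groth.Agent.EtDual.K336.BidStepAbs.nonempty_shiftNeg A K i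
  rw [← DerivedCategory.isLE_Q_obj_iff] at h ⊢
  have h1 : ((DerivedCategory.Q.obj (A.D K))⟦i⟧).IsLE e :=
    DerivedCategory.TStructure.t.isLE_shift (DerivedCategory.Q.obj (A.D K)) d i e (by lia)
  exact ⟨(DerivedCategory.TStructure.t.le e).prop_of_iso f.symm h1.le⟩

/-- The amplitude in extensions. -/
theorem isLE_D_X₂ (S : ShortComplex (CochainComplex C ℤ)) (hS : S.ShortExact) (d : ℤ)
    (h₁ : (A.D S.X₁).IsLE d) (h₃ : (A.D S.X₃).IsLE d) : (A.D S.X₂).IsLE d := by
  rw [isLE_iff] at h₁ h₃ ⊢
  intro i hi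
  rw [exactAt_iff_isZero_homology]
  have hD := A.shortExact_dualSC hS
  refine (hD.homology_exact₂ i).isZero_of_both_zeros ?_ ?_
  · exact IsZero.eq_of_src ((exactAt_iff_isZero_homology _ _).1 (h₃ i hi)) _ _
  · exact IsZero.eq_of_tgt ((exactAt_iff_isZero_homology _ _).1 (h₁ i hi)) _ _

theorem isLE_D_of_homology [HasDerivedCategory.{w} C] (B : ℤ) (n : ℕ) (a : ℤ) (E : CochainComplex C ℤ)
    (h1 : E.IsGE a) (h2 : E.IsLE (a + n - 1))
    (hE : ∀ i, (A.D ((CochainComplex.singleFunctor C 0).obj (E.homology i))).IsLE B) :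
    (A.D E).IsLE (B - a) := by
  induction n generalizing a E with
  | zero =>
    refine isLE_D_of_acyclic A (fun i => ?_) _
    by_cases hi : i < a
    · exact E.exactAt_of_isGE a i hi
    · exact E.exactAt_of_isLE (a + (0 : ℕ) - 1) i (by simp; lia)
  | succ n ih =>
    have hT : (E.truncLE a).IsGE a := by
      rw [isGE_iff]
      intro i hi
      have := E.quasiIsoAt_ιTruncLE a i (by lia)
      exact (exactAt_iff_of_quasiIsoAt (E.ιTruncLE a) i).2 (E.exactAt_of_isGE a i hi)
    refine isLE_D_X₂ A _ (E.shortComplexTruncLE_shortExact a) _ ?_ ?_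
    · change (A.D (E.truncLE a)).IsLE _
      obtain ⟨f, hf⟩ := exists_iso_single_shift (E.truncLE a) a
      rw [isLE_iff_of_quasiIso A f]
      refine isLE_D_shift A _ a B _ (by lia) ?_
      exact (isLE_iff_of_quasiIso A ((CochainComplex.singleFunctor C 0).mapIso
          (isoOfQuasiIsoAt (E.ιTruncLE a) a)).hom B).2 (hE a)
    · rw [isLE_iff_of_quasiIso A (E.shortComplexTruncLEX₃ToTruncGE a (a + 1))]
      have h3 : (A.D (E.truncGE (a + 1))).IsLE (B - (a + 1)) := by
        refine ih (a + 1) _ inferInstance ?_ fun i => ?_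
        · rw [isLE_iff]
          intro i hi
          have := E.quasiIsoAt_πTruncGE (a + 1) i (by lia)
          exact (exactAt_iff_of_quasiIsoAt (E.πTruncGE (a + 1)) i).1
            (E.exactAt_of_isLE (a + (n + 1 : ℕ) - 1) i (by push_cast; lia))
        · by_cases hi : a + 1 ≤ i
          · have := E.quasiIsoAt_πTruncGE (a + 1) i hi
            exact (isLE_iff_of_quasiIso A ((CochainComplex.singleFunctor C 0).mapIso
              (isoOfQuasiIsoAt (E.πTruncGE (a + 1)) i)).hom B).1 (hE i)
          · have hz : IsZero ((CochainComplex.singleFunctor C 0).obj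
                ((E.truncGE (a + 1)).homology i)) := (CochainComplex.singleFunctor C 0).map_isZero
                  ((E.truncGE (a + 1)).isZero_of_isGE (a + 1) i (by lia))
            refine isLE_D_of_acyclic A (fun j => ?_) _
            rw [exactAt_iff_isZero_homology]
            exact (homologyFunctor C (ComplexShape.up ℤ) j).map_isZero hz
      exact isLE_of_le _ (B - (a + 1)) _ (by lia)

/-- Way-out devissage for reflexivity, for a class of objects with uniformly bounded duals with homology in the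
class. -/
theorem refl_single_of_way [HasDerivedCategory.{w} C] (B : ℤ) (P K : ObjectProperty C)
    (hP : ∀ X, P X → A.Refl ((CochainComplex.singleFunctor C 0).obj X))
    (hK : ∀ X, K X → ∃ (Y Z : C) (f : Y ⟶ Z) (g : Z ⟶ X) (w : f ≫ g = 0),
      (ShortComplex.mk f g w).ShortExact ∧ K Y ∧ P Z)
    (hc : ∀ X, K X → ∀ q : ℤ, K ((A.D ((CochainComplex.singleFunctor C 0).obj X)).homology q))
    (hge : ∀ X, K X → (A.D ((CochainComplex.singleFunctor C 0).obj X)).IsGE 0)
    (hle : ∀ X, K X → (A.D ((CochainComplex.singleFunctor C 0).obj X)).IsLE B)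
    (X : C) (hX : K X) : A.Refl ((CochainComplex.singleFunctor C 0).obj X) := by
  refine ⟨BidWay.quasiIso_of_resolution (BidPt.evNat A) (fun S hS => hS) (BidPt.exactCx_dd A)
    P K (fun X hX => (hP X hX).qis) hK (max B 0) (fun X _ => ?_) (fun X hX => ?_) X hX⟩
  · have h1 : CochainComplex.IsLE ((CochainComplex.singleFunctor C 0).obj X) 0 := inferInstance
    change CochainComplex.IsLE ((CochainComplex.singleFunctor C 0).obj X) (max B 0)
    exact isLE_of_le _ 0 _ (le_max_right _ _)
  · change CochainComplex.IsLE (A.D (A.D ((CochainComplex.singleFunctor C 0).obj X))) (max B 0)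
    have h1 := hge X hX
    have h2 := hle X hX
    have h2' : (A.D ((CochainComplex.singleFunctor C 0).obj X)).IsLE (0 + ((B + 1).toNat : ℤ) - 1) :=
      isLE_of_le _ B _ (by lia)
    have h3 := isLE_D_of_homology A B (B + 1).toNat 0 _ h1 h2' fun i => hle _ (hc X hX i)
    rw [sub_zero] at h3
    exact isLE_of_le _ B _ (le_max_left _ _)

end Abs

section Et

open scoped Groth.Agent.Sga4h.ModInst
open Groth.Agent.Sga4h.Refl Groth.Agent.Sga4h.BidIndLoc48 Groth.Agent.Etcore.LFree
attribute [local instance] HasDerivedCategory.standard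
attribute [local instance] Abelian.hasFiniteBiproducts

variable {Λ : Type (u + 1)} [CommRing Λ] {X : Scheme.{u}} (A : DualData (EtModD.tensorBi Λ X))

/-- The objects `M` with `M[0]` reflexive: finite sums. -/
theorem refl_biproduct {n : ℕ} (U : Fin n → X.Etale)
    (h : ∀ i, A.Refl ((CochainComplex.singleFunctor (EtModW.Mod Λ X) 0).obj (LM Λ (U i)))) :
    A.Refl ((CochainComplex.singleFunctor (EtModW.Mod Λ X) 0).obj (⨁ fun i => LM Λ (U i))) := by
  let P : ObjectProperty (EtModW.Mod Λ X) := fun M =>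
    A.Refl ((CochainComplex.singleFunctor (EtModW.Mod Λ X) 0).obj M)
  have i0 : P.ContainsZero := by
    obtain ⟨Z, hZ⟩ : ∃ Z : EtModW.Mod Λ X, IsZero Z := HasZeroObject.zero
    refine ⟨Z, hZ, A.refl_of_acyclic fun i => ?_⟩
    rw [HomologicalComplex.exactAt_iff_isZero_homology]
    exact (HomologicalComplex.homologyFunctor _ (ComplexShape.up ℤ) i).map_isZero
      ((CochainComplex.singleFunctor (EtModW.Mod Λ X) 0).map_isZero hZ)
  have i1 : P.IsClosedUnderIsomorphisms :=
    ⟨fun e h => (A.refl_iff_of_quasiIso ((CochainComplex.singleFunctor (EtModW.Mod Λ X) 0).mapIso e).hom).1 h⟩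
  have i2 : P.IsClosedUnderExtensions :=
    ⟨fun hS h₁ h₃ => A.refl₂ (BidWay.single_shortExact hS 0) h₁ h₃⟩
  exact LamPres857.prop_biproduct P _ h

/-- **Biduality from the sheaves `Λ[U]` and uniform bounds.** -/
theorem bid_of_LM [IsNoetherianRing Λ] [IsNoetherian X] (B : ℤ)
    (hc : ∀ F : EtModW.Mod Λ X, EtModW.IsConstructible Λ F → ∀ q : ℤ,
      EtModW.IsConstructible Λ ((A.D ((CochainComplex.singleFunctor (EtModW.Mod Λ X) 0).obj F)).homology q))
    (hge : ∀ F : EtModW.Mod Λ X, EtModW.IsConstructible Λ F →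
      (A.D ((CochainComplex.singleFunctor (EtModW.Mod Λ X) 0).obj F)).IsGE 0)
    (hle : ∀ F : EtModW.Mod Λ X, EtModW.IsConstructible Λ F →
      (A.D ((CochainComplex.singleFunctor (EtModW.Mod Λ X) 0).obj F)).IsLE B)
    (hr : ∀ U : X.Etale, IsAffine U.left →
      A.Refl ((CochainComplex.singleFunctor (EtModW.Mod Λ X) 0).obj (LM Λ U))) : Bid A := by
  refine ⟨DbcDual323.isDbc_D A fun F hF => ?_, DbcDual323.refl_of_isDbc A fun F hF => ?_⟩
  · rw [Dbc323.isDbc_Q_iff]
    exact ⟨⟨0, B, hge F hF, hle F hF⟩, hc F hF⟩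
  · refine refl_single_of_way A B (LamPres857.FinLM Λ X) (fun M => EtModW.IsConstructible Λ M) ?_
      (fun M hM => LamPres857.exists_shortExact M hM) hc hge hle F hF
    rintro _ ⟨n, U, hU, rfl⟩
    exact refl_biproduct A U fun i => hr (U i) (hU i)

end Et

end K973.WayRefl
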