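import Groth.Agent.Etdl.H860.HSg
import Groth.Agent.Etdl.H424.PlusAdj
import Groth.Agent.Etdl.H441.InjAmp

/-!
# Direct images on `D^+` and their adjoints, in terms of morphisms in the unbounded derived category

`F : A ⥤ B` (direct image), `G : B ⥤ A` exact, `G ⊣ F`; `T : B ⥤ A` exact, `T ≅ G`, and an adjunction
`RF ⊣ (R T)[e]` on `D^+`.  `exists_push`: for `M : D(A)` bounded below, `N = RF M`:
* `Hom(N, C[r]) ≃ Hom(M, (G C)[r + e])`;
* `Hom(C, N[r]) ≃ Hom(G C, M[r])`.
-/

set_option autoImplicit false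

universe w w' v v' u u'

open CategoryTheory CategoryTheory.Limits

namespace K973.PushAbs

open Groth.Agent Groth.Agent.Etdl.H860

section basic

variable {A : Type u} [Category.{v} A] [Abelian A] [HasDerivedCategory.{w} A]

/-- Morphisms in `D^+` and in `D`. -/
noncomputable def homι (K L : DerivedCategory.Plus A) :
    (K ⟶ L) ≃ (DerivedCategory.Plus.ι.obj K ⟶ DerivedCategory.Plus.ι.obj L) :=
  (Functor.FullyFaithful.ofFullyFaithful (DerivedCategory.Plus.ι (C := A))).homEquiv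

/-- Shifts and the inclusion of `D^+`. -/
noncomputable def shiftι (L : DerivedCategory.Plus A) (r : ℤ) :
    DerivedCategory.Plus.ι.obj (L⟦r⟧) ≅ (DerivedCategory.Plus.ι.obj L)⟦r⟧ :=
  ((DerivedCategory.Plus.ι (C := A)).commShiftIso r).app L

/-- Morphisms into a shift. -/
noncomputable def homιShift (K L : DerivedCategory.Plus A) (r : ℤ) :
    (K ⟶ L⟦r⟧) ≃ (DerivedCategory.Plus.ι.obj K ⟶ (DerivedCategory.Plus.ι.obj L)⟦r⟧) :=
  (homι K (L⟦r⟧)).trans (Iso.homCongr (Iso.refl _) (shiftι L r))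

end basic

variable {A : Type u} [Category.{v} A] [Abelian A] [HasDerivedCategory.{w} A] [EnoughInjectives A]
  {B : Type u'} [Category.{v'} B] [Abelian B] [HasDerivedCategory.{w'} B] [EnoughInjectives B]

/-- The derived functor commutes with shifts. -/
noncomputable def rdShift (F : A ⥤ B) [F.Additive] (K : DerivedCategory.Plus A) (r : ℤ) :
    F.rightDerivedFunctorPlus.obj (K⟦r⟧) ≅ (F.rightDerivedFunctorPlus.obj K)⟦r⟧ :=
  (F.rightDerivedFunctorPlus.commShiftIso r).app K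

/-- The derived functor of an exact functor on an object. -/
noncomputable def rdSingle (F : A ⥤ B) [F.Additive] [PreservesFiniteLimits F] [PreservesFiniteColimits F]
    (C : A) : F.rightDerivedFunctorPlus.obj ((DerivedCategory.Plus.singleFunctor A 0).obj C) ≅
      (DerivedCategory.Plus.singleFunctor B 0).obj (F.obj C) :=
  (HSg.singleExact F).app C

variable (F : A ⥤ B) [F.Additive] (G : B ⥤ A) [G.Additive] [PreservesFiniteLimits G]
  [PreservesFiniteColimits G]

/-- `Hom(C, (RF M)[r]) ≃ Hom(G C, M[r])`. -/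
theorem nonempty_equiv_left (adj : G ⊣ F) (M : DerivedCategory.Plus A) (C : B) (r : ℤ) :
    Nonempty (((DerivedCategory.singleFunctor B 0).obj C ⟶
      (DerivedCategory.Plus.ι.obj (F.rightDerivedFunctorPlus.obj M))⟦r⟧) ≃
      ((DerivedCategory.singleFunctor A 0).obj (G.obj C) ⟶ (DerivedCategory.Plus.ι.obj M)⟦r⟧)) := by
  let S := (DerivedCategory.Plus.singleFunctor B 0).obj C
  have e1 := homιShift S (F.rightDerivedFunctorPlus.obj M) r
  have e2 : (S ⟶ (F.rightDerivedFunctorPlus.obj M)⟦r⟧) ≃ (S ⟶ F.rightDerivedFunctorPlus.obj (M⟦r⟧)) :=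
    Iso.homCongr (Iso.refl _) (rdShift F M r).symm
  have e3 := ((Etdl.H424.PlusAdj.dadj adj).homEquiv S (M⟦r⟧)).symm
  have e4 : (G.rightDerivedFunctorPlus.obj S ⟶ M⟦r⟧) ≃
      ((DerivedCategory.Plus.singleFunctor A 0).obj (G.obj C) ⟶ M⟦r⟧) :=
    Iso.homCongr (rdSingle G C) (Iso.refl _)
  have e5 := homιShift ((DerivedCategory.Plus.singleFunctor A 0).obj (G.obj C)) M r
  exact ⟨e1.symm.trans (e2.trans (e3.trans (e4.trans e5)))⟩

/-- `Hom(RF M, C[r]) ≃ Hom(M, (G C)[r + e])`. -/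
theorem nonempty_equiv_right (T : B ⥤ A) [T.Additive] [PreservesFiniteLimits T]
    [PreservesFiniteColimits T] (i : T ≅ G) (e : ℤ)
    (adj : F.rightDerivedFunctorPlus ⊣ T.rightDerivedFunctorPlus ⋙ shiftFunctor (DerivedCategory.Plus A) e)
    (M : DerivedCategory.Plus A) (C : B) (r : ℤ) :
    Nonempty ((DerivedCategory.Plus.ι.obj (F.rightDerivedFunctorPlus.obj M) ⟶
        ((DerivedCategory.singleFunctor B 0).obj C)⟦r⟧) ≃
      (DerivedCategory.Plus.ι.obj M ⟶ ((DerivedCategory.singleFunctor A 0).obj (G.obj C))⟦r + e⟧)) := by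
  let S := (DerivedCategory.Plus.singleFunctor B 0).obj C
  let S' := (DerivedCategory.Plus.singleFunctor A 0).obj (G.obj C)
  have e1 := homιShift (F.rightDerivedFunctorPlus.obj M) S r
  have e2 := adj.homEquiv M (S⟦r⟧)
  let t : (T.rightDerivedFunctorPlus ⋙ shiftFunctor (DerivedCategory.Plus A) e).obj (S⟦r⟧) ≅ S'⟦r + e⟧ :=
    (shiftFunctor (DerivedCategory.Plus A) e).mapIso (rdShift T S r ≪≫
      (shiftFunctor (DerivedCategory.Plus A) r).mapIso (rdSingle T C ≪≫
        (DerivedCategory.Plus.singleFunctor A 0).mapIso (i.app C))) ≪≫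
      (shiftFunctorAdd (DerivedCategory.Plus A) r e).symm.app S'
  have e3 : (M ⟶ (T.rightDerivedFunctorPlus ⋙ shiftFunctor (DerivedCategory.Plus A) e).obj (S⟦r⟧)) ≃
      (M ⟶ S'⟦r + e⟧) := Iso.homCongr (Iso.refl _) t
  have e4 := homιShift M S' (r + e)
  exact ⟨e1.symm.trans (e2.trans (e3.trans e4))⟩

/-- The direct image of a bounded below object and the two adjunctions. -/
theorem exists_push (adj : G ⊣ F) (T : B ⥤ A) [T.Additive] [PreservesFiniteLimits T]
    [PreservesFiniteColimits T] (i : T ≅ G) (e : ℤ)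
    (adj' : F.rightDerivedFunctorPlus ⊣ T.rightDerivedFunctorPlus ⋙ shiftFunctor (DerivedCategory.Plus A) e)
    (M : DerivedCategory A) (a : ℤ) [hM : M.IsGE a] :
    ∃ N : DerivedCategory B, N.IsGE a ∧
      N = DerivedCategory.Plus.ι.obj (F.rightDerivedFunctorPlus.obj ⟨M, ⟨a, hM⟩⟩) ∧
      (∀ (C : B) (r : ℤ), Nonempty ((N ⟶ ((DerivedCategory.singleFunctor B 0).obj C)⟦r⟧) ≃
        (M ⟶ ((DerivedCategory.singleFunctor A 0).obj (G.obj C))⟦r + e⟧))) ∧
      (∀ (C : B) (r : ℤ), Nonempty (((DerivedCategory.singleFunctor B 0).obj C ⟶ N⟦r⟧) ≃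
        ((DerivedCategory.singleFunctor A 0).obj (G.obj C) ⟶ M⟦r⟧))) := by
  let M' : DerivedCategory.Plus A := ⟨M, ⟨a, hM⟩⟩
  have h1 : M'.IsGE a := (DerivedCategory.Plus.isGE_ι_obj_iff M' a).1 hM
  have h2 := Etdl.H441.InjAmp.isGE_rightDerivedFunctorPlus_obj F M' a
  exact ⟨_, (DerivedCategory.Plus.isGE_ι_obj_iff _ a).2 h2, rfl,
    fun C r => nonempty_equiv_right F G T i e adj' M' C r,
    fun C r => nonempty_equiv_left F G adj M' C r⟩

end K973.PushAbs
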