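import Groth.Agent.EtDepth.K973.PushDbc
import Groth.Agent.EtDepth.K973.MuTriv
import Groth.Agent.Etdl.H425.Clopen
import Groth.Agent.Etdl.H426.T1Plus
import Groth.Agent.Etdl.H424.PullPushPlus

/-!
# Relative duality for a proper smooth morphism with trivial twists

`exists_push`: the direct image `N = Rf_* M` and its two adjunctions, given the duality `Rf_! ⊣ (f^* - ⊗ ω)[e]` with
`ω` isomorphic to the constant sheaf.
-/

set_option autoImplicit false
universe u
open CategoryTheory CategoryTheory.Limits AlgebraicGeometry Opposite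
attribute [local instance] HasDerivedCategory.standard

namespace K973.PushGen

open Groth.Agent Groth.Agent.Etdl.H426.Iface

variable (Λ : Type (u + 1)) [CommRing Λ] {X S : Scheme.{u}}

/-- The trivial compactification of a proper morphism. -/
noncomputable def triv (f : X ⟶ S) [IsProper f] : DEt.Compactification f where
  Xbar := X
  j := 𝟙 X
  fbar := f
  isOpenImmersion := inferInstance
  isProper := inferInstance
  fac := Category.id_comp f

/-- `Rf_! = Rf_*` for `f` proper. -/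
theorem nonempty_iso (f : X ⟶ S) [IsProper f] :
    Nonempty (EtDl.RshriekPlus Λ (triv f) ≅ EtDl.pushPlus Λ f) := by
  refine CohtopB.RDPComp.nonempty_iso (EtDl.extZeroMod Λ (𝟙 X)) (EtModW.push Λ f) (EtModW.push Λ f)
    (Functor.isoWhiskerRight (Etdl.H425.Clopen.extZeroPushIso Λ (𝟙 X)) (EtModW.push Λ f) ≪≫
      Etcore.LPullComp.pushComp Λ f (𝟙 X) ≪≫ Etcore.LPullComp.pushCongr Λ (Category.id_comp f)) ?_
  intro I hI
  exact Injective.of_iso ((Etdl.H425.Clopen.extZeroPushIso Λ (𝟙 X)).app I).symm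
    (Etdl.H425.Clopen.injective_push Λ (𝟙 X) I hI)

variable {Λ}

/-- Tensoring with a sheaf isomorphic to the unit. -/
theorem nonempty_twistBy_iso {ω : EtModW.Mod Λ X} (hω : Nonempty (ω ≅ EtModW.constMod Λ X Λ)) :
    Nonempty (EtDl.twistBy Λ X ω ≅ 𝟭 (EtModW.Mod Λ X)) := by
  obtain ⟨i⟩ := hω
  exact ⟨(EtModD.tensorBi Λ X).flip.mapIso i ≪≫ Sga4h.TensorUnit.tensorUnitRight Λ X⟩

/-- **Relative duality**: the direct image of a bounded below object and the two adjunctions. -/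
theorem exists_push (f : X ⟶ S) [IsProper f] (e : ℤ) (ω : EtModW.Mod Λ X)
    (hω : Nonempty (ω ≅ EtModW.constMod Λ X Λ))
    (hadj : Nonempty (EtDl.RshriekPlus Λ (triv f) ⊣ EtDl.twistedPullPlus Λ f ω e))
    (M : EtModD.D Λ X) (a : ℤ) [hM : M.IsGE a] :
    ∃ N : EtModD.D Λ S, N.IsGE a ∧
      N = DerivedCategory.Plus.ι.obj ((EtModW.push Λ f).rightDerivedFunctorPlus.obj ⟨M, ⟨a, hM⟩⟩) ∧
      (∀ (C : EtModW.Mod Λ S) (r : ℤ), Nonempty ((N ⟶ ((DerivedCategory.singleFunctor _ 0).obj C)⟦r⟧) ≃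
        (M ⟶ ((DerivedCategory.singleFunctor _ 0).obj ((EtModW.pull Λ f).obj C))⟦r + e⟧))) ∧
      (∀ (C : EtModW.Mod Λ S) (r : ℤ), Nonempty (((DerivedCategory.singleFunctor _ 0).obj C ⟶ N⟦r⟧) ≃
        ((DerivedCategory.singleFunctor _ 0).obj ((EtModW.pull Λ f).obj C) ⟶ M⟦r⟧))) := by
  obtain ⟨adj⟩ := hadj
  obtain ⟨i⟩ := nonempty_iso Λ f
  obtain ⟨j⟩ := nonempty_twistBy_iso hω
  have h1 : PreservesFiniteLimits (EtDl.twistBy Λ X ω) := preservesFiniteLimits_of_natIso j.symm
  have h2 : PreservesFiniteColimits (EtDl.twistBy Λ X ω) := preservesFiniteColimits_of_natIso j.symm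
  have h3 := Etdl.H426.T1Plus.preservesFiniteLimits_T1 Λ f ω
  have h4 := Etdl.H426.T1Plus.preservesFiniteColimits_T1 Λ f ω
  have h5 : PreservesFiniteLimits (EtModW.pull Λ f) := Etdl.H424.PullPushPlus.preservesFiniteLimits_pull Λ f
  have h6 : PreservesColimitsOfSize.{0, 0} (EtModW.pull Λ f) :=
    (EtDl.pullPushModAdj Λ f).leftAdjoint_preservesColimits
  have h7 : PreservesFiniteColimits (EtModW.pull Λ f) :=
    PreservesColimitsOfSize.preservesFiniteColimits _
  have adj' := (adj.ofNatIsoLeft i).ofNatIsoRight (Etdl.H426.T1Plus.twistedPullPlusIso Λ f ω e)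
  exact PushAbs.exists_push (EtModW.push Λ f) (EtModW.pull Λ f) (EtDl.pullPushModAdj Λ f) (T1 Λ f ω)
    (Functor.isoWhiskerLeft (EtModW.pull Λ f) j ≪≫ Functor.rightUnitor _) e adj' M a

end K973.PushGen
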