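import Groth.Agent.EtDepth.K973.RegRefl
import Groth.Agent.EtDepth.K973.BidStmt
import Groth.Agent.Sga2lef.H134.DualOpen
import Groth.Agent.EtDl.K555.RegMor
import Groth.Agent.EtpbcB.BCMorField
import Groth.Agent.EtpbcA.P1Charts
import Groth.Agent.Etcore.LPullComp
import Groth.Agent.Etdl.H424.ModLift
import Groth.Agent.Sga2lef.H90.PowInd

/-!
# Reflexivity of inverse images from the affine line

* `refl_single_pull`: the inverse image of a constructible sheaf along a morphism satisfying base change is reflexive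
  if biduality holds on the target;
* `refl_of_open`: the same for sheaves on an open subscheme of the target;
* `refl_of_A1`: for the inverse images along `Spec ρ`, `ρ : K[[x_1, …, x_M]][X] → A` regular, from the biduality on the
  projective line over `Spec K[[x_1, …, x_M]]`.
-/

set_option autoImplicit false

universe u

open CategoryTheory CategoryTheory.Limits AlgebraicGeometry Opposite

attribute [local instance 5000] CategoryTheory.Abelian.toPreadditive
  CategoryTheory.Preadditive.preadditiveHasZeroMorphisms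

namespace K973.AlgA1

attribute [local instance] HasDerivedCategory.standard
open scoped Groth.Agent.Sga4h.ModInst
open Groth.Agent Groth.Agent.Sga4h Groth.Agent.EtpbcB Groth.Agent.Sga4h.Refl
open Groth.Agent.Sga4h.BidIndLoc48 Groth.Agent.Sga4h.BidRed538Main Groth.Agent.Sga4h.ModRestr
  Groth.Agent.Sga4h.BidRed538Asm Groth.Agent.Sga4h.BidEtSh Groth.Agent.Sga4h.BidEtMod
open Groth.Agent.Etdl.H434.Defs Groth.Agent.Sga4h.BidGeoIt K973.Stmt K973.BidStmt

variable {Λ : Type (u + 1)} [CommRing Λ] {n : ℕ}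

/-- Reflexivity of the inverse images of constructible sheaves. -/
theorem refl_single_pull [IsNoetherianRing Λ] {X Y : Scheme.{u}} (g : Y ⟶ X) (hX : IsNoetherian X)
    (hΛ : (n : Λ) = 0) (hg : RegCmp.GoodT n g) (hB : Bid (stdDual Λ X)) (F : EtModW.Mod Λ X)
    (hF : EtModW.IsConstructible Λ F) :
    (stdDual Λ Y).Refl ((CochainComplex.singleFunctor (EtModW.Mod Λ Y) 0).obj ((EtModW.pull Λ g).obj F)) := by
  have h1 := (Dbc323.isDbc_Q_single_iff F 0).2 hF
  have h2 := RegRefl.refl_pull g hX hΛ hg _ h1 (hB.dbc _ h1) (hB.refl _ h1)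
  exact ((stdDual Λ Y).refl_iff_of_quasiIso
    ((HomologicalComplex.singleMapHomologicalComplex (EtModW.pull Λ g) (ComplexShape.up ℤ) 0).app F).hom).1 h2

/-- Reflexivity depends only on the isomorphism class. -/
theorem refl_single_iso {X : Scheme.{u}} (A : DualData (EtModD.tensorBi Λ X)) {F G : EtModW.Mod Λ X} (e : F ≅ G)
    (h : A.Refl ((CochainComplex.singleFunctor (EtModW.Mod Λ X) 0).obj F)) :
    A.Refl ((CochainComplex.singleFunctor (EtModW.Mod Λ X) 0).obj G) :=
  (A.refl_iff_of_quasiIso ((CochainComplex.singleFunctor (EtModW.Mod Λ X) 0).mapIso e).hom).1 h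

/-- Reflexivity of the inverse images of constructible sheaves on open subschemes. -/
theorem refl_of_open [Finite Λ] {X V Y : Scheme.{u}} (j : V ⟶ X) [IsOpenImmersion j] (r : Y ⟶ V)
    (hX : IsNoetherian X) (hV : IsNoetherian V)
    (hΛ : (n : Λ) = 0) (hg : RegCmp.GoodT n (r ≫ j)) (hB : Bid (stdDual Λ X)) (F : EtModW.Mod Λ V)
    (hF : EtModW.IsConstructible Λ F) :
    (stdDual Λ Y).Refl ((CochainComplex.singleFunctor (EtModW.Mod Λ Y) 0).obj ((EtModW.pull Λ r).obj F)) := by
  have h1 : EtModW.IsConstructible Λ ((ext Λ j).obj F) := BidRed538Ext.isConstructible_ext j F hF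
  have h2 := refl_single_pull (r ≫ j) hX hΛ hg hB _ h1
  have h : IsIso ((extResAdj Λ j).unit.app F) := inferInstance
  refine refl_single_iso _ ?_ h2
  exact ((Etcore.LPullComp.pullComp Λ r j).app _).symm ≪≫ (EtModW.pull Λ r).mapIso
    ((Etdl.H424.ModLift.pullResIso Λ j).app _ ≪≫ (asIso ((extResAdj Λ j).unit.app F)).symm)

open Groth.Agent.EtpbcA.P1Charts in
theorem isNoetherian_PP (B : CommRingCat.{u}) [IsNoetherianRing B] : IsNoetherian (PP B) := by
  have hprop : IsProper (toB B) := Groth.Agent.Dix.ProjProper.isProper_toBase 1 (Spec B)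
  have h1 : IsLocallyNoetherian (PP B) := LocallyOfFiniteType.isLocallyNoetherian (toB B)
  have h2 : CompactSpace (PP B) := QuasiCompact.compactSpace_of_compactSpace (toB B)
  exact { }

/-- `ρ` followed by the chart of the projective line satisfies base change. -/
theorem goodT_chart {m : ℕ} (hm : 0 < m) {M : ℕ} {K : Type u} [Field K] [CharZero K] {A : Type u} [CommRing A]
    [IsNoetherianRing A] (ρ : Polynomial (MvPowerSeries (Fin M) K) →+* A)
    (hρ : @CAlg.IsRegularHom _ _ _ _ ρ.toAlgebra) :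
    RegCmp.GoodT m (Spec.map (CommRingCat.ofHom ρ) ≫
      Groth.Agent.EtpbcA.P1Charts.chart 0 (CommRingCat.of (MvPowerSeries (Fin M) K))) := by
  have hR : IsNoetherianRing (MvPowerSeries (Fin M) K) :=
    Groth.Agent.Sga2lef.H90.PowInd.isNoetherianRing_mvPowerSeries M
  let sR : Spec (CommRingCat.of (MvPowerSeries (Fin M) K)) ⟶ Spec (CommRingCat.of K) :=
    Spec.map (CommRingCat.ofHom (algebraMap K (MvPowerSeries (Fin M) K)))
  have hn : IsUnit (m : Γ(Spec (CommRingCat.of K), ⊤)) := by
    have h1 : IsUnit (m : K) := Ne.isUnit (by exact_mod_cast hm.ne')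
    have h3 := h1.map (Scheme.ΓSpecIso (CommRingCat.of K)).inv.hom
    rwa [map_natCast] at h3
  refine RegCmp.goodT_of_bcMor hn (BCU.UBC.bcMor (BCU.UBC.comp
    (BCU.UBC.of_smooth (Groth.Agent.EtpbcA.P1Charts.toB _ ≫ sR) _) ?_))
  exact K555.RegMor.ubc_of_isRegularHom ρ hρ
    (Spec.map (CommRingCat.ofHom (Polynomial.C : MvPowerSeries (Fin M) K →+* _)) ≫ sR)

/-- **Reflexivity of the inverse images from the affine line.** -/
theorem refl_of_A1 {m : ℕ} (hm : 0 < m) {M : ℕ} {K : Type u} [Field K] [CharZero K]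
    (hP : Bid (stdDual (Lam.{u} m) (It (SP M K) 1))) {A : Type u} [CommRing A]
    [IsNoetherianRing A] (ρ : Polynomial (MvPowerSeries (Fin M) K) →+* A)
    (hρ : @CAlg.IsRegularHom _ _ _ _ ρ.toAlgebra)
    (H : EtModW.Mod (Lam.{u} m) (Spec (CommRingCat.of (Polynomial (MvPowerSeries (Fin M) K)))))
    (hH : EtModW.IsConstructible (Lam.{u} m) H) :
    (stdDual (Lam.{u} m) (Spec (CommRingCat.of A))).Refl ((CochainComplex.singleFunctor _ 0).obj
      ((EtModW.pull (Lam.{u} m) (Spec.map (CommRingCat.ofHom ρ))).obj H)) := by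
  have : NeZero m := ⟨hm.ne'⟩
  have hR : IsNoetherianRing (MvPowerSeries (Fin M) K) :=
    Groth.Agent.Sga2lef.H90.PowInd.isNoetherianRing_mvPowerSeries M
  have hPP : IsNoetherian (It (SP M K) 1) := isNoetherian_PP (CommRingCat.of (MvPowerSeries (Fin M) K))
  have hfin : Finite (Lam.{u} m) := inferInstance
  have hΛ : ((m : ℕ) : Lam.{u} m) = 0 := by
    apply ULift.ext
    change ((m : ℕ) : ZMod m) = 0
    exact ZMod.natCast_self m
  let j : Spec (CommRingCat.of (Polynomial (MvPowerSeries (Fin M) K))) ⟶ It (SP M K) 1 :=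
    Groth.Agent.EtpbcA.P1Charts.chart 0 (CommRingCat.of (MvPowerSeries (Fin M) K))
  have hj : IsOpenImmersion j :=
    Groth.Agent.EtpbcA.P1Charts.isOpenImmersion_chart 0 (CommRingCat.of (MvPowerSeries (Fin M) K))
  exact refl_of_open (n := m) j (Spec.map (CommRingCat.ofHom ρ)) hPP inferInstance hΛ (goodT_chart hm ρ hρ) hP H hH

end K973.AlgA1
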