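import Groth.Agent.EtDepth.K973.AlgDom
import Groth.Agent.EtDepth.K973.WayRefl
import Groth.Agent.EtDepth.K584.HDCon
import Groth.Agent.EtDepth.K198.AlgDec

/-!
# Biduality on `Spec K[[x_0, …, x_M]]` from a uniform bound

`bid_of_bound`: biduality on `Spec K[[x_0, …, x_M]]` from the biduality on the projective line over
`Spec K[[x_1, …, x_M]]`, if the duals of the constructible sheaves are uniformly bounded above.
-/

set_option autoImplicit false

universe u

open CategoryTheory CategoryTheory.Limits AlgebraicGeometry Opposite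

attribute [local instance 5000] CategoryTheory.Abelian.toPreadditive
  CategoryTheory.Preadditive.preadditiveHasZeroMorphisms

attribute [-instance] ULift.ring

namespace K973.AlgBid

attribute [local instance] HasDerivedCategory.standard
open scoped Groth.Agent.Sga4h.ModInst
open Groth.Agent Groth.Agent.Sga4h Groth.Agent.Sga4h.Refl Groth.Agent.Sga4h.BidIndLoc48
  Groth.Agent.Sga4h.BidRed538Main
open Groth.Agent.Etdl.H434.Defs Groth.Agent.Sga4h.BidGeoIt K973.Stmt K973.BidStmt Groth.Agent.Etcore.LFree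

/-- The dual of a sheaf is in degrees `≥ 0`. -/
theorem isGE_D {Λ : Type (u + 1)} [CommRing Λ] {X : Scheme.{u}} (F : EtModW.Mod Λ X) :
    ((stdDual Λ X).D ((CochainComplex.singleFunctor (EtModW.Mod Λ X) 0).obj F)).IsGE 0 := by
  rw [CochainComplex.isGE_iff]
  intro i hi
  rw [HomologicalComplex.exactAt_iff_isZero_homology]
  exact K584.DCon.isZero_neg (stdDual Λ X) (stdι Λ X) (quasiIso_stdι Λ X) F i hi

/-- Biduality from uniform bounds, general coefficients. -/
theorem bid_gen {Λ : Type (u + 1)} [CommRing Λ] [IsNoetherianRing Λ] {X : Scheme.{u}} [IsNoetherian X] (B : ℤ)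
    (hc : ∀ F : EtModW.Mod Λ X, EtModW.IsConstructible Λ F → ∀ q : ℤ,
      EtModW.IsConstructible Λ
        (((stdDual Λ X).D ((CochainComplex.singleFunctor (EtModW.Mod Λ X) 0).obj F)).homology q))
    (hle : ∀ F : EtModW.Mod Λ X, EtModW.IsConstructible Λ F →
      ((stdDual Λ X).D ((CochainComplex.singleFunctor (EtModW.Mod Λ X) 0).obj F)).IsLE B)
    (hr : ∀ U : X.Etale, IsAffine U.left →
      (stdDual Λ X).Refl ((CochainComplex.singleFunctor (EtModW.Mod Λ X) 0).obj (LM Λ U))) :
    Bid (stdDual Λ X) :=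
  WayRefl.bid_of_LM (stdDual Λ X) B hc (fun F _ => isGE_D F) hle hr

theorem hlm {m : ℕ} (hm : 0 < m) {M : ℕ} {K : Type u} [Field K] [CharZero K] [IsNoetherian (SP M K)]
    (U : (SP M K).Etale) (hU : IsAffine U.left) (q : ℕ) :
    EtModW.IsConstructible (Lam.{u} m) (((EtModW.push (Lam.{u} m) U.hom).rightDerived q).obj
      ((ModRestr.res (Lam.{u} m) U.hom).obj (EtModW.constMod (Lam.{u} m) (SP M K) (Lam.{u} m)))) :=
  K584.HDCon.isConstructible_lm hm (𝟙 (SP M K)) U hU q

theorem hc {m : ℕ} (hm : 0 < m) {M : ℕ} {K : Type u} [Field K] [CharZero K] [IsNoetherian (SP M K)]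
    [IsNoetherianRing (Lam.{u} m)] (F : EtModW.Mod (Lam.{u} m) (SP M K))
    (hF : EtModW.IsConstructible (Lam.{u} m) F) (q : ℤ) : EtModW.IsConstructible (Lam.{u} m)
      (((stdDual (Lam.{u} m) (SP M K)).D ((CochainComplex.singleFunctor _ 0).obj F)).homology q) :=
  K584.DCon.isConstructible_D (stdDual (Lam.{u} m) (SP M K)) (stdι (Lam.{u} m) (SP M K))
    (quasiIso_stdι (Lam.{u} m) (SP M K)) (fun U hU q => hlm hm U hU q) F hF q

theorem hr {m : ℕ} (hm : 0 < m) {M : ℕ} {K : Type u} [Field K] [CharZero K]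
    (hP : Bid (stdDual (Lam.{u} m) (It (SP M K) 1))) (U : (SP (M + 1) K).Etale) (hU : IsAffine U.left)
    (hU' : IsIntegral U.left) :
    (stdDual (Lam.{u} m) (SP (M + 1) K)).Refl ((CochainComplex.singleFunctor _ 0).obj (LM (Lam.{u} m) U)) :=
  K973.AlgDom.refl_LM_integral hm hP U hU hU'

/-- **Biduality from uniform bounds.** -/
theorem bid_of_bound {m : ℕ} (hm : 0 < m) {M : ℕ} {K : Type u} [Field K] [CharZero K]
    (hP : Bid (stdDual (Lam.{u} m) (It (SP M K) 1)))
    (B : ℤ) (hle : ∀ F : EtModW.Mod (Lam.{u} m) (SP (M + 1) K), EtModW.IsConstructible (Lam.{u} m) F →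
      ((stdDual (Lam.{u} m) (SP (M + 1) K)).D ((CochainComplex.singleFunctor _ 0).obj F)).IsLE B) :
    Bid (stdDual (Lam.{u} m) (SP (M + 1) K)) := by
  have : NeZero m := ⟨hm.ne'⟩
  have hA : IsNoetherianRing (MvPowerSeries (Fin (M + 1)) K) :=
    Groth.Agent.Sga2lef.H90.PowInd.isNoetherianRing_mvPowerSeries (M + 1)
  have hX : AlgebraicGeometry.IsNoetherian (SP (M + 1) K) := inferInstance
  exact bid_gen (X := SP (M + 1) K) B
    (fun F hF q => hc hm F hF q) hle
    (K198.AlgDec.refl_LM (fun U x => K198.AlgDec.isDomain_stalk U x) (stdDual (Lam.{u} m) (SP (M + 1) K))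
      (fun U hU hU' => hr hm hP U hU hU'))

end K973.AlgBid
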