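import Groth.Agent.EtDepth.K973.AlgLM
import Groth.Agent.EtDepth.K198.AlgSq

/-!
# Reflexivity of `Λ[U]`, `U` integral affine étale over `Spec K[[x_0, …, x_M]]`

* `nonempty_iso_bc`: étale schemes with the same restriction to an open subscheme;
* `refl_LM_domain`: `Λ[U]` is reflexive on `Spec K[[x_0, …, x_M]]` for `U` affine integral étale, from the biduality on
  the projective line over `Spec K[[x_1, …, x_M]]`.
-/

set_option autoImplicit false

universe u

open CategoryTheory CategoryTheory.Limits AlgebraicGeometry Opposite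

attribute [local instance 5000] CategoryTheory.Abelian.toPreadditive
  CategoryTheory.Preadditive.preadditiveHasZeroMorphisms

namespace K973.AlgDom

open Groth.Agent Groth.Agent.EtpbcA.ConsPull

section Iso

variable {V T : Scheme.{u}} (v : V ⟶ T) [IsOpenImmersion v]

/-- Étale schemes with the same restriction to an open subscheme. -/
theorem nonempty_iso_bc (U U' : T.Etale) (j : U' ⟶ U) [IsOpenImmersion j.left]
    (hr : ∀ y : U.left, U.hom y ∈ Set.range v → y ∈ Set.range j.left) :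
    Nonempty ((EtCoh.bc v).obj U ≅ (EtCoh.bc v).obj U') := by
  have h1 : IsOpenImmersion (fstBc v U) := inferInstanceAs (IsOpenImmersion (pullback.fst U.hom v))
  have h2 : IsOpenImmersion (fstBc v U') := inferInstanceAs (IsOpenImmersion (pullback.fst U'.hom v))
  have h3 : IsOpenImmersion (((EtCoh.bc v).map j).left ≫ fstBc v U) := by
    rw [bc_map_fst]
    infer_instance
  have h4 : IsOpenImmersion ((EtCoh.bc v).map j).left := IsOpenImmersion.of_comp _ (fstBc v U)
  have h5 : IsIso ((EtCoh.bc v).map j).left := by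
    rw [isIso_iff_isOpenImmersion_and_surjective]
    refine ⟨h4, ⟨fun z => ?_⟩⟩
    obtain ⟨y, hy⟩ := hr (fstBc v U z) ⟨((EtCoh.bc v).obj U).hom z, (by
      have h : fstBc v U ≫ U.hom = ((EtCoh.bc v).obj U).hom ≫ v := pullback.condition
      exact (congrArg (fun (q : ((EtCoh.bc v).obj U).left ⟶ T) => q z) h).symm)⟩
    obtain ⟨z', -, hz'⟩ := exists_bc_point v j y z hy
    exact ⟨z', hz'⟩
  let e : (EtCoh.bc v).obj U' ≅ (EtCoh.bc v).obj U :=
    MorphismProperty.Over.isoMk (asIso ((EtCoh.bc v).map j).left) (MorphismProperty.Over.w ((EtCoh.bc v).map j))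
  exact ⟨e.symm⟩

/-- Base changes of étale schemes from cartesian squares. -/
theorem nonempty_bc_mk {T A X Y : Scheme.{u}} (r : T ⟶ A) (p : X ⟶ T) [Etale p] (q : Y ⟶ A) [Etale q] (a : X ⟶ Y)
    (h : IsPullback a p q r) :
    Nonempty ((Scheme.Etale.mk p : T.Etale) ≅ (EtCoh.bc r).obj (Scheme.Etale.mk q)) :=
  ⟨MorphismProperty.Over.isoMk h.isoPullback h.isoPullback_hom_snd⟩

theorem isoSpec_inv_comp {A : Type u} [CommRing A] {X : Scheme.{u}} [IsAffine X]
    (h : X ⟶ Spec (CommRingCat.of A)) :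
    X.isoSpec.inv ≫ h = Spec.map ((Scheme.ΓSpecIso (CommRingCat.of A)).inv ≫ h.appTop) := by
  rw [Iso.inv_comp_eq, Spec.map_comp, Scheme.isoSpec_hom_naturality_assoc, Scheme.isoSpec_Spec_hom,
    ← Spec.map_comp, Iso.inv_hom_id, Spec.map_id, Category.comp_id]

/-- Étale affine schemes over an affine scheme. -/
theorem nonempty_iso_mk {A : Type u} [CommRing A] (U : (Spec (CommRingCat.of A)).Etale) [IsAffine U.left] :
    ∃ (_ : Algebra A Γ(U.left, ⊤)) (_ : Etale (Spec.map (CommRingCat.ofHom (algebraMap A Γ(U.left, ⊤))))),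
      Algebra.Etale A Γ(U.left, ⊤) ∧
      Nonempty (U ≅ Scheme.Etale.mk (Spec.map (CommRingCat.ofHom (algebraMap A Γ(U.left, ⊤))))) := by
  let φ : CommRingCat.of A ⟶ Γ(U.left, ⊤) := (Scheme.ΓSpecIso (CommRingCat.of A)).inv ≫ U.hom.appTop
  have hφ : U.left.isoSpec.inv ≫ U.hom = Spec.map φ := isoSpec_inv_comp (X := U.left) U.hom
  let _ : Algebra A Γ(U.left, ⊤) := φ.hom.toAlgebra
  have he : Etale (Spec.map φ) := by
    rw [← hφ]
    infer_instance
  refine ⟨inferInstance, he, ?_, ?_⟩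
  · rw [← RingHom.etale_algebraMap]
    exact HasRingHomProperty.Spec_iff.1 he
  · exact ⟨MorphismProperty.Over.isoMk U.left.isoSpec (by
      change U.left.isoSpec.hom ≫ Spec.map φ = U.hom
      rw [← hφ, Iso.hom_inv_id_assoc])⟩

end Iso

section Main

attribute [-instance] ULift.ring
attribute [local instance] HasDerivedCategory.standard
open scoped Groth.Agent.Sga4h.ModInst
open Groth.Agent.Sga4h Groth.Agent.Sga4h.Refl Groth.Agent.Sga4h.BidIndLoc48 Groth.Agent.Sga4h.BidRed538Main
open Groth.Agent.Etdl.H434.Defs Groth.Agent.Sga4h.BidGeoIt K973.Stmt K973.BidStmt Groth.Agent.Etcore.LFree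

/-- Base change of a quotient ring. -/
theorem isPushout_quot {A B : Type u} [CommRing A] [CommRing B] (φ : A →+* B) (I : Ideal A) (J : Ideal B)
    (hIJ : I ≤ J.comap φ) (hJ : J ≤ I.map φ) :
    IsPushout (CommRingCat.ofHom φ) (CommRingCat.ofHom (Ideal.Quotient.mk I))
      (CommRingCat.ofHom (Ideal.Quotient.mk J)) (CommRingCat.ofHom (Ideal.quotientMap J φ hIJ)) := by
  refine ⟨⟨?_⟩, ⟨PushoutCocone.IsColimit.mk _ (fun s => CommRingCat.ofHom
    (Ideal.Quotient.lift J s.inl.hom ?_)) ?_ ?_ ?_⟩⟩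
  · apply CommRingCat.hom_ext
    ext a
    rfl
  · have h1 : J ≤ RingHom.ker s.inl.hom := by
      refine hJ.trans (Ideal.map_le_iff_le_comap.2 fun a ha => ?_)
      rw [Ideal.mem_comap, RingHom.mem_ker]
      have hc := congrArg (fun q => q.hom a) s.condition
      have hc' : s.inl.hom (φ a) = s.inr.hom (Ideal.Quotient.mk I a) := hc
      rw [hc', Ideal.Quotient.eq_zero_iff_mem.2 ha, map_zero]
    exact fun a ha => h1 ha
  · intro s
    apply CommRingCat.hom_ext
    exact RingHom.ext fun x => rfl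
  · intro s
    apply CommRingCat.hom_ext
    refine Ideal.Quotient.ringHom_ext (RingHom.ext fun x => ?_)
    have hc := congrArg (fun q => q.hom x) s.condition
    exact hc
  · intro s m h1 h2
    apply CommRingCat.hom_ext
    refine Ideal.Quotient.ringHom_ext (RingHom.ext fun x => ?_)
    exact congrArg (fun q => q.hom x) h1

/-- The complement of `V(w)`. -/
theorem range_away {A : Type u} [CommRing A] (w : A) :
    Set.range (Spec.map (CommRingCat.ofHom (algebraMap A (Localization.Away w)))) =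
      (Set.range (Spec.map (CommRingCat.ofHom (Ideal.Quotient.mk (Ideal.span {w})))))ᶜ := by
  have h1 : Set.range (Spec.map (CommRingCat.ofHom (algebraMap A (Localization.Away w)))) =
      (PrimeSpectrum.basicOpen w : Set (PrimeSpectrum A)) :=
    PrimeSpectrum.localization_away_comap_range (Localization.Away w) w
  have h2 : Set.range (Spec.map (CommRingCat.ofHom (Ideal.Quotient.mk (Ideal.span {w})))) =
      PrimeSpectrum.zeroLocus ((Ideal.span {w} : Ideal A) : Set A) := by
    refine (range_comap_of_surjective _ _ Ideal.Quotient.mk_surjective).trans ?_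
    rw [Ideal.mk_ker]
  rw [h1, h2, PrimeSpectrum.zeroLocus_span, PrimeSpectrum.basicOpen_eq_zeroLocus_compl]
  rfl

theorem isIso_specMap_of_bijective {A B : Type u} [CommRing A] [CommRing B] (f : A →+* B)
    (hf : Function.Bijective f) : IsIso (Spec.map (CommRingCat.ofHom f)) := by
  have h1 : IsIso (CommRingCat.ofHom f) := (ConcreteCategory.isIso_iff_bijective (CommRingCat.ofHom f)).2 hf
  infer_instance

/-- `AlgLM.refl_LM` for data equal to the given ones. -/
theorem refl_LM_of_eq {m : ℕ} [IsNoetherianRing (Lam.{u} m)] {V T A Z Z₀ : Scheme.{u}} (v : V ⟶ T) [IsOpenImmersion v]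
    (r : T ⟶ A) (b : Z ⟶ T) [IsClosedImmersion b] (hvb : Set.range v = (Set.range b)ᶜ) (b₀ : Z₀ ⟶ A) (σ : Z ⟶ Z₀)
    [IsClosedImmersion b₀] [LocallyOfFinitePresentation b₀] [IsIso σ]
    (h : IsPullback σ b b₀ r) (hn0 : 0 < m) (hn : ((m : ℕ) : Lam.{u} m) = 0)
    (D : DualData (EtModD.tensorBi (Lam.{u} m) T))
    {T' : Scheme.{u}} (r' : T' ⟶ A) (D' : DualData (EtModD.tensorBi (Lam.{u} m) T'))
    (S' : EtModW.Mod (Lam.{u} m) T' ⥤ CochainComplex (EtModW.Mod (Lam.{u} m) T') ℤ)
    (hR : ∀ H : EtModW.Mod (Lam.{u} m) A, EtModW.IsConstructible (Lam.{u} m) H →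
      D'.Refl (S'.obj ((EtModW.pull (Lam.{u} m) r').obj H)))
    (U : T.Etale) (hU : EtModW.IsConstructible (Lam.{u} m) (LM (Lam.{u} m) U)) (U₀ : A.Etale)
    (hU₀ : EtModW.IsConstructible (Lam.{u} m) (LM (Lam.{u} m) U₀))
    (e : (EtCoh.bc v).obj U ≅ (EtCoh.bc v).obj ((EtCoh.bc r).obj U₀))
    (hr : Set.range ((EtCoh.bc r).obj U₀).hom ⊆ Set.range v)
    (eT : T' = T) (er : HEq r' r) (eD : HEq D' D) (eS' : CochainComplex.singleFunctor _ 0 = S')
    (S : EtModW.Mod (Lam.{u} m) T ⥤ CochainComplex (EtModW.Mod (Lam.{u} m) T) ℤ)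
    (eS : CochainComplex.singleFunctor _ 0 = S) (W : EtModW.Mod (Lam.{u} m) T)
    (eW : LM (Lam.{u} m) U = W) : D.Refl (S.obj W) := by
  subst eT
  cases er
  cases eD
  subst eS' eS eW
  exact AlgLM.refl_LM v r' b hvb b₀ σ h hn0 hn D' hR U hU U₀ hU₀ e hr

/-- Reflexivity of `Λ[U]` and isomorphisms. -/
theorem refl_LM_iso {Λ : Type (u + 1)} [CommRing Λ] {X : Scheme.{u}} (D : DualData (EtModD.tensorBi Λ X))
    {U U' : X.Etale} (e : U ≅ U')
    (h : D.Refl ((CochainComplex.singleFunctor (EtModW.Mod Λ X) 0).obj (LM Λ U))) :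
    D.Refl ((CochainComplex.singleFunctor (EtModW.Mod Λ X) 0).obj (LM Λ U')) :=
  AlgA1.refl_single_iso D (F := LM Λ U) (G := LM Λ U') ((LMF Λ X).mapIso e) h

/-- `Λ[U]` is reflexive for `U = Spec C`, `C` a domain. -/
theorem refl_LM_mk {m : ℕ} (hm : 0 < m) {M : ℕ} {K : Type u} [Field K] [CharZero K]
    (hP : Bid (stdDual (Lam.{u} m) (It (SP M K) 1))) (C : Type u) [CommRing C] [IsDomain C]
    [Algebra (MvPowerSeries (Fin (M + 1)) K) C] [Algebra.Etale (MvPowerSeries (Fin (M + 1)) K) C]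
    [Etale (Spec.map (CommRingCat.ofHom (algebraMap (MvPowerSeries (Fin (M + 1)) K) C)))] :
    (stdDual (Lam.{u} m) (SP (M + 1) K)).Refl ((CochainComplex.singleFunctor _ 0).obj
      (LM (Lam.{u} m) (Scheme.Etale.mk (Spec.map (CommRingCat.ofHom
        (algebraMap (MvPowerSeries (Fin (M + 1)) K) C)))))) := by
  have : NeZero m := ⟨hm.ne'⟩
  have hA : IsNoetherianRing (MvPowerSeries (Fin (M + 1)) K) :=
    Groth.Agent.Sga2lef.H90.PowInd.isNoetherianRing_mvPowerSeries (M + 1)
  have hR : IsNoetherianRing (MvPowerSeries (Fin M) K) :=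
    Groth.Agent.Sga2lef.H90.PowInd.isNoetherianRing_mvPowerSeries M
  have hfin : Finite (Lam.{u} m) := inferInstance
  have hΛ : ((m : ℕ) : Lam.{u} m) = 0 := by
    apply ULift.ext
    change ((m : ℕ) : ZMod m) = 0
    exact ZMod.natCast_self m
  obtain ⟨w, hw, ρ, hρ, W, hW, hass, h, hbij, T₀, _, τ, hτ, φ, hφ⟩ :=
    K198.AlgSq.exists_square_etale (K := K) (M := M) C
  let A := MvPowerSeries (Fin (M + 1)) K
  let Cw := Localization.Away (algebraMap A C w)
  let v : Spec (CommRingCat.of (Localization.Away w)) ⟶ SP (M + 1) K :=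
    Spec.map (CommRingCat.ofHom (algebraMap A (Localization.Away w)))
  let r : SP (M + 1) K ⟶ Spec (CommRingCat.of (Polynomial (MvPowerSeries (Fin M) K))) :=
    Spec.map (CommRingCat.ofHom ρ)
  let b : Spec (CommRingCat.of (A ⧸ Ideal.span {w})) ⟶ SP (M + 1) K :=
    Spec.map (CommRingCat.ofHom (Ideal.Quotient.mk (Ideal.span {w})))
  let b₀ : Spec (CommRingCat.of (Polynomial (MvPowerSeries (Fin M) K) ⧸ Ideal.span {W})) ⟶
      Spec (CommRingCat.of (Polynomial (MvPowerSeries (Fin M) K))) :=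
    Spec.map (CommRingCat.ofHom (Ideal.Quotient.mk (Ideal.span {W})))
  let σ : Spec (CommRingCat.of (A ⧸ Ideal.span {w})) ⟶
      Spec (CommRingCat.of (Polynomial (MvPowerSeries (Fin M) K) ⧸ Ideal.span {W})) :=
    Spec.map (CommRingCat.ofHom (Ideal.quotientMap (Ideal.span {w}) ρ h))
  have hb : IsClosedImmersion b := IsClosedImmersion.spec_of_surjective _ Ideal.Quotient.mk_surjective
  have hb₀ : IsClosedImmersion b₀ := IsClosedImmersion.spec_of_surjective _ Ideal.Quotient.mk_surjective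
  have hv : IsOpenImmersion v := inferInstance
  have hσ : IsIso σ := isIso_specMap_of_bijective _ hbij
  have hsq : IsPullback σ b b₀ r := by
    refine (isPullback_SpecMap_of_isPushout _ _ _ _ (isPushout_quot ρ (Ideal.span {W}) (Ideal.span {w}) h ?_)).flip
    rw [Ideal.map_span, Set.image_singleton, Ideal.span_singleton_le_span_singleton]
    exact hass.symm.dvd
  have hlfp : LocallyOfFinitePresentation b₀ := LocallyOfFinitePresentation.iff_locallyOfFiniteType.2 inferInstance
  -- the étale schemes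
  let p : Spec (CommRingCat.of C) ⟶ SP (M + 1) K := Spec.map (CommRingCat.ofHom (algebraMap A C))
  have hp : Etale p := inferInstance
  let a : Spec (CommRingCat.of Cw) ⟶ Spec (CommRingCat.of C) := Spec.map (CommRingCat.ofHom (algebraMap C Cw))
  have ha : IsOpenImmersion a := inferInstance
  let p' : Spec (CommRingCat.of Cw) ⟶ SP (M + 1) K := Spec.map (CommRingCat.ofHom (algebraMap A Cw))
  have hap : a ≫ p = p' := by
    change Spec.map _ ≫ Spec.map _ = Spec.map _
    rw [← Spec.map_comp, ← CommRingCat.ofHom_comp, ← IsScalarTower.algebraMap_eq]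
  have hp' : Etale p' := by
    rw [← hap]
    infer_instance
  let q : Spec (CommRingCat.of T₀) ⟶ Spec (CommRingCat.of (Polynomial (MvPowerSeries (Fin M) K))) :=
    Spec.map (CommRingCat.ofHom τ)
  have hq : Etale q := HasRingHomProperty.Spec_iff.2 hτ
  let U : (SP (M + 1) K).Etale := Scheme.Etale.mk p
  let U' : (SP (M + 1) K).Etale := Scheme.Etale.mk p'
  let U₀ : (Spec (CommRingCat.of (Polynomial (MvPowerSeries (Fin M) K)))).Etale := Scheme.Etale.mk q
  let j : U' ⟶ U := MorphismProperty.Over.homMk a hap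
  have hj : IsOpenImmersion j.left := ha
  have hrange : ∀ x : SP (M + 1) K, x ∈ Set.range v ↔ w ∉ x.asIdeal := by
    intro x
    have h1 : Set.range v = (PrimeSpectrum.basicOpen w : Set (PrimeSpectrum A)) :=
      PrimeSpectrum.localization_away_comap_range (Localization.Away w) w
    rw [h1]
    rfl
  have hrangea : ∀ y : Spec (CommRingCat.of C), y ∈ Set.range a ↔ algebraMap A C w ∉ y.asIdeal := by
    intro y
    have h1 : Set.range a = (PrimeSpectrum.basicOpen (algebraMap A C w) : Set (PrimeSpectrum C)) :=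
      PrimeSpectrum.localization_away_comap_range Cw (algebraMap A C w)
    rw [h1]
    rfl
  have hp'v : ∀ y : Spec (CommRingCat.of Cw), p' y ∈ Set.range v := by
    intro y
    rw [← hap]
    change p (a y) ∈ Set.range v
    rw [hrange]
    exact (hrangea _).1 ⟨_, rfl⟩
  obtain ⟨e1⟩ := nonempty_iso_bc v U U' j (fun y hy => (hrangea y).2 ((hrange _).1 hy))
  have hsq' : IsPullback (Spec.map (CommRingCat.ofHom φ)) p' q r := (isPullback_SpecMap_of_isPushout _ _ _ _ hφ).flip
  obtain ⟨e2⟩ := nonempty_bc_mk r p' q (Spec.map (CommRingCat.ofHom φ)) hsq'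
  have hr : Set.range ((EtCoh.bc r).obj U₀).hom ⊆ Set.range v := by
    rintro _ ⟨x, rfl⟩
    have h1 : e2.inv.left ≫ p' = ((EtCoh.bc r).obj U₀).hom := MorphismProperty.Over.w e2.inv
    rw [← h1]
    exact hp'v (e2.inv.left x)
  have hU : EtModW.IsConstructible (Lam.{u} m) (LM (Lam.{u} m) U) := by
    have : IsAffine U.left := inferInstanceAs (IsAffine (Spec (CommRingCat.of C)))
    exact Groth.Agent.Etcore.LFreePull.isConstructible_LM_of_affine U
  have hU₀ : EtModW.IsConstructible (Lam.{u} m) (LM (Lam.{u} m) U₀) := by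
    have : IsAffine U₀.left := inferInstanceAs (IsAffine (Spec (CommRingCat.of T₀)))
    exact Groth.Agent.Etcore.LFreePull.isConstructible_LM_of_affine U₀
  exact refl_LM_of_eq v r b (range_away w) b₀ σ hsq hm hΛ _ _ _ _ (AlgA1.refl_of_A1 hm hP ρ hρ) U hU U₀ hU₀
    (e1 ≪≫ (EtCoh.bc v).mapIso e2) hr rfl HEq.rfl HEq.rfl rfl _ rfl _ rfl

/-- **`Λ[U]` is reflexive** on `Spec K[[x_0, …, x_M]]` for `U` affine integral étale. -/
theorem refl_LM_integral {m : ℕ} (hm : 0 < m) {M : ℕ} {K : Type u} [Field K] [CharZero K]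
    (hP : Bid (stdDual (Lam.{u} m) (It (SP M K) 1))) (U : (SP (M + 1) K).Etale) (hU : IsAffine U.left)
    (hU' : IsIntegral U.left) :
    (stdDual (Lam.{u} m) (SP (M + 1) K)).Refl ((CochainComplex.singleFunctor _ 0).obj (LM (Lam.{u} m) U)) := by
  obtain ⟨_, _, h1, ⟨e⟩⟩ := nonempty_iso_mk U
  exact refl_LM_iso (X := SP (M + 1) K) (stdDual (Lam.{u} m) (SP (M + 1) K)) e.symm
    (refl_LM_mk hm hP Γ(U.left, ⊤))

end Main

end K973.AlgDom
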