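import Groth.Agent.EtDepth.K973.AlgA1
import Groth.Agent.EtDepth.K343.ExtOpen
import Groth.Agent.Sga4h.H299.PbcMod
import Groth.Agent.Etcore.LFreePull
import Groth.Agent.Sga4h.LFinSupp
import Groth.Agent.Fixpt.H875.FinPushMod
import Groth.Agent.Sga4h.BidWay

/-!
# Reflexivity of `Λ[U]` from algebraic models

`r : T ⟶ A` is a morphism such that the inverse images of the constructible sheaves on `A` are reflexive on `T`.

* `refl_closed`: direct images from closed subschemes of `T` isomorphic to closed subschemes of `A` are reflexive;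
* `nonempty_eo_LM`: `v_! v⁻¹ Λ[U] ≅ r⁻¹ Λ[U₀]` if `U` and `U₀ ×_A T` are isomorphic over the open `V`;
* `refl_LM`: `Λ[U]` is reflexive.
-/

set_option autoImplicit false

universe u

open CategoryTheory CategoryTheory.Limits AlgebraicGeometry Opposite

attribute [local instance 5000] CategoryTheory.Abelian.toPreadditive
  CategoryTheory.Preadditive.preadditiveHasZeroMorphisms

namespace K973.AlgLM

attribute [local instance] HasDerivedCategory.standard
open scoped Groth.Agent.Sga4h.ModInst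
open Groth.Agent Groth.Agent.Sga4h Groth.Agent.EtpbcB Groth.Agent.Sga4h.Refl
open Groth.Agent.Etcore.LFree Groth.Agent.Etcore.LFreePull Groth.Agent.Sga4h.LFinSupp K343.ExtOpen
open Groth.Agent.Etcore.LVan K973.AlgA1

variable {Λ : Type (u + 1)} [CommRing Λ] {n : ℕ}

section Closed

variable {T A Z Z₀ : Scheme.{u}} (r : T ⟶ A) (b : Z ⟶ T) (b₀ : Z₀ ⟶ A) (σ : Z ⟶ Z₀)

/-- Direct images from closed subschemes of `T` isomorphic to closed subschemes of `A`. -/
theorem nonempty_closed [IsClosedImmersion b₀] [IsIso σ] (h : IsPullback σ b b₀ r) (hn0 : 0 < n)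
    (hn : (n : Λ) = 0) (G : EtModW.Mod Λ Z) :
    Nonempty ((EtModW.pull Λ r).obj ((EtModW.push Λ b₀).obj ((EtModW.pull Λ (inv σ)).obj G)) ≅
      (EtModW.push Λ b).obj G) := by
  obtain ⟨e⟩ := H299.PbcMod.nonempty_pbc0 (Λ := Λ) h hn0 hn
  exact ⟨e.app _ ≪≫ (EtModW.push Λ b).mapIso ((Etcore.LPullComp.pullComp Λ σ (inv σ)).app G ≪≫
    (Etcore.LPullComp.pullCongr Λ (IsIso.hom_inv_id σ)).app G ≪≫ (Etcore.LPullComp.pullId Λ Z).app G)⟩

theorem refl_closed [IsNoetherianRing Λ] [IsClosedImmersion b₀] [LocallyOfFinitePresentation b₀] [IsIso σ]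
    (h : IsPullback σ b b₀ r) (hn0 : 0 < n) (hn : (n : Λ) = 0) (D : DualData (EtModD.tensorBi Λ T))
    (hR : ∀ H : EtModW.Mod Λ A, EtModW.IsConstructible Λ H →
      D.Refl ((CochainComplex.singleFunctor (EtModW.Mod Λ T) 0).obj ((EtModW.pull Λ r).obj H)))
    (G : EtModW.Mod Λ Z) (hG : EtModW.IsConstructible Λ G) :
    D.Refl ((CochainComplex.singleFunctor (EtModW.Mod Λ T) 0).obj ((EtModW.push Λ b).obj G)) := by
  obtain ⟨e⟩ := nonempty_closed r b b₀ σ h hn0 hn G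
  refine refl_single_iso D e (hR _ ?_)
  exact Fixpt.H875.FinPushMod.isConstructible_push b₀ _ (Etcore.LCrit.isConstructible_pull (inv σ) _ hG)

end Closed

section Open

/-- `Λ[U]` vanishes off the image of `U`. -/
theorem zeroOff_LM {X : Scheme.{u}} (U : X.Etale) : ZeroOff (LM Λ U) (Set.range U.hom) := by
  rw [zeroOff_iff]
  intro y hy
  refine IsZero.of_iso ?_ (pullLM (X.fromSpecResidueField y) U)
  have hE : IsEmpty ((EtCoh.bc (X.fromSpecResidueField y)).obj U).left := by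
    refine ⟨fun z => hy ⟨EtpbcA.ConsPull.fstBc (X.fromSpecResidueField y) U z, ?_⟩⟩
    rw [← snd_bc_apply]
    have := Set.mem_range_self (f := X.fromSpecResidueField y)
      (((EtCoh.bc (X.fromSpecResidueField y)).obj U).hom z)
    rwa [Scheme.range_fromSpecResidueField] at this
  rw [IsZero.iff_id_eq_zero]
  refine hom_ext ?_
  rw [Etcore.LVan.eq_zero_of_van (ev (𝟙 _) _ (gen Λ _)) (fun x => (hE.false x).elim)]
  exact (Etcore.LVan.eq_zero_of_van (ev 0 _ (gen Λ _)) (fun x => (hE.false x).elim)).symm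

variable {V T A : Scheme.{u}} (v : V ⟶ T) [IsOpenImmersion v] (r : T ⟶ A)

theorem nonempty_eo_LM (U : T.Etale) (U₀ : A.Etale)
    (e : (EtCoh.bc v).obj U ≅ (EtCoh.bc v).obj ((EtCoh.bc r).obj U₀))
    (h : Set.range ((EtCoh.bc r).obj U₀).hom ⊆ Set.range v) :
    Nonempty ((eo Λ v).obj (LM Λ U) ≅ (EtModW.pull Λ r).obj (LM Λ U₀)) := by
  have h0 : ZeroOff ((EtModW.pull Λ r).obj (LM Λ U₀)) (Set.range v) :=
    ((zeroOff_LM ((EtCoh.bc r).obj U₀)).mono h).of_iso (pullLM r U₀).symm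
  have h1 := isIso_ε_of_zeroOff v _ h0
  let e1 : (EtModW.pull Λ v).obj (LM Λ U) ≅ (EtModW.pull Λ v).obj ((EtModW.pull Λ r).obj (LM Λ U₀)) :=
    pullLM v U ≪≫ (LMF Λ V).mapIso e ≪≫ (pullLM v _).symm ≪≫ (EtModW.pull Λ v).mapIso (pullLM r U₀).symm
  let e2 : (eo Λ v).obj (LM Λ U) ≅ (eo Λ v).obj ((EtModW.pull Λ r).obj (LM Λ U₀)) :=
    (Groth.Agent.Sga4h.ModRestr.ext Λ v).mapIso
      (((Etdl.H424.ModLift.pullResIso Λ v).app _).symm ≪≫ e1 ≪≫ (Etdl.H424.ModLift.pullResIso Λ v).app _)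
  exact ⟨e2 ≪≫ asIso ((ε Λ v).app ((EtModW.pull Λ r).obj (LM Λ U₀)))⟩

end Open

/-- **Reflexivity of `Λ[U]`.** -/
theorem refl_LM [IsNoetherianRing Λ] {V T A Z Z₀ : Scheme.{u}} (v : V ⟶ T) [IsOpenImmersion v] (r : T ⟶ A)
    (b : Z ⟶ T) [IsClosedImmersion b] (hvb : Set.range v = (Set.range b)ᶜ) (b₀ : Z₀ ⟶ A) (σ : Z ⟶ Z₀)
    [IsClosedImmersion b₀] [LocallyOfFinitePresentation b₀] [IsIso σ]
    (h : IsPullback σ b b₀ r) (hn0 : 0 < n) (hn : (n : Λ) = 0) (D : DualData (EtModD.tensorBi Λ T))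
    (hR : ∀ H : EtModW.Mod Λ A, EtModW.IsConstructible Λ H →
      D.Refl ((CochainComplex.singleFunctor (EtModW.Mod Λ T) 0).obj ((EtModW.pull Λ r).obj H)))
    (U : T.Etale) (hU : EtModW.IsConstructible Λ (LM Λ U)) (U₀ : A.Etale)
    (hU₀ : EtModW.IsConstructible Λ (LM Λ U₀))
    (e : (EtCoh.bc v).obj U ≅ (EtCoh.bc v).obj ((EtCoh.bc r).obj U₀))
    (hr : Set.range ((EtCoh.bc r).obj U₀).hom ⊆ Set.range v) :
    D.Refl ((CochainComplex.singleFunctor (EtModW.Mod Λ T) 0).obj (LM Λ U)) := by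
  obtain ⟨e1⟩ := nonempty_eo_LM (Λ := Λ) v r U U₀ e hr
  exact D.refl₂ (BidWay.single_shortExact (shortExact_exc v b hvb (LM Λ U)) 0)
    (refl_single_iso D e1.symm (hR _ hU₀))
    (refl_closed r b b₀ σ h hn0 hn D hR _ (Etcore.LCrit.isConstructible_pull b _ hU))

end K973.AlgLM
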