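import Groth.Agent.EtDepth.K973.AlgBid
import Groth.Agent.EtDepth.K141.BdMain
import Groth.Agent.EtDepth.K177.DualAsm

/-!
# NODE ALG

`main`: biduality on `Spec K[[x_0, …, x_M]]` from the biduality on the projective line over `Spec K[[x_1, …, x_M]]` and the
biduality over the power series rings in at most `M` variables.
-/

set_option autoImplicit false
universe u
open CategoryTheory CategoryTheory.Limits AlgebraicGeometry Opposite

attribute [local instance 5000] CategoryTheory.Abelian.toPreadditive
  CategoryTheory.Preadditive.preadditiveHasZeroMorphisms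
attribute [-instance] ULift.ring

namespace K973.AlgMain

open scoped Groth.Agent.Sga4h.ModInst
open Groth.Agent Groth.Agent.Sga4h Groth.Agent.Sga4h.Refl Groth.Agent.Sga4h.BidIndLoc48
  Groth.Agent.Sga4h.BidRed538Main
open Groth.Agent.Etdl.H434.Defs Groth.Agent.Sga4h.BidGeoIt K973.Stmt K973.BidStmt

/-- `bid_of_bound` for a functor equal to the single functor. -/
theorem bid_of_bound {m : ℕ} (hm : 0 < m) {M : ℕ} {K : Type u} [Field K] [CharZero K]
    (hP : Bid (stdDual (Lam.{u} m) (It (SP M K) 1)))
    (S : EtModW.Mod (Lam.{u} m) (SP (M + 1) K) ⥤ CochainComplex (EtModW.Mod (Lam.{u} m) (SP (M + 1) K)) ℤ)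
    (B : ℤ) (hle : ∀ F : EtModW.Mod (Lam.{u} m) (SP (M + 1) K), EtModW.IsConstructible (Lam.{u} m) F →
      ((stdDual (Lam.{u} m) (SP (M + 1) K)).D (S.obj F)).IsLE B)
    (e : CochainComplex.singleFunctor _ 0 = S) :
    Bid (stdDual (Lam.{u} m) (SP (M + 1) K)) := by
  subst e
  exact K973.AlgBid.bid_of_bound hm hP B hle

/-- **NODE ALG.** -/
theorem main : K177.DualAsm.NodeAlg'.{u} := by
  intro m hm M hB hP K _ _ _
  obtain ⟨B, hle⟩ := K141.BdMain.exists_isLE hm M K hB
  exact bid_of_bound hm (hP K) _ B hle rfl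

end K973.AlgMain
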