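import Groth.Agent.EtDepth.K973.RegCmp

/-!
# Reflexivity and inverse images along morphisms satisfying base change

`refl_pull`: if `K` is reflexive on `X`, then `g⁻¹ K` is reflexive on `Y`, for `g` as in `RegCmp`.
-/

set_option autoImplicit false
set_option linter.unusedSectionVars false
set_option backward.defeqAttrib.useBackward true
set_option backward.isDefEq.respectTransparency false

universe v₁ v₂ u₁ u₂ u

namespace K973.RegRefl

open CategoryTheory Category Limits HomologicalComplex CochainComplex Opposite ZeroObject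

section Abs

open Groth.Agent
open Groth.Agent.Sga4h Groth.Agent.Sga4h.DualCx Groth.Agent.PerfC Groth.Agent.Sga4h.BidCmp Groth.Agent.Sga4h.HomCx
open Groth.Agent.Dcoh.DerAdj Groth.Agent.Sga4h.Refl Groth.Agent.Sga4h.BidEtCmp

variable {C : Type u₁} [Category.{v₁} C] [Abelian C] {T : C ⥤ C ⥤ C} [T.Additive] [∀ X, (T.obj X).Additive]
  [∀ (K₁ K₂ : CochainComplex C ℤ), CochainComplex.HasMapBifunctor K₁ K₂ T]
  [∀ E : CochainComplex C ℤ, (T.map₂CochainComplex.flip.obj E).IsLeftAdjoint]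
  {C' : Type u₂} [Category.{v₂} C'] [Abelian C'] {T' : C' ⥤ C' ⥤ C'} [T'.Additive] [∀ X, (T'.obj X).Additive]
  [∀ (K₁ K₂ : CochainComplex C' ℤ), CochainComplex.HasMapBifunctor K₁ K₂ T']
  [∀ E : CochainComplex C' ℤ, (T'.map₂CochainComplex.flip.obj E).IsLeftAdjoint]
  {a : C ⥤ C'} [a.Additive] [PreservesFiniteLimits a] [PreservesFiniteColimits a]
  [∀ (J : Type), HasColimitsOfShape (Discrete J) C]
  [∀ (J : Type), (colim : (Discrete J ⥤ C) ⥤ C).PreservesMonomorphisms]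
  [∀ (J : Type), HasColimitsOfShape (Discrete J) C']
  [∀ (J : Type), (colim : (Discrete J ⥤ C') ⥤ C').PreservesMonomorphisms]

theorem exists_refl (τ : a ⋙ T' ⋙ (Functor.whiskeringLeft _ _ _).obj a ⟶ T ⋙ (Functor.whiskeringRight _ _ _).obj a)
    (A : DualData T) (A' : DualData T')
    (α : (a.mapHomologicalComplex (ComplexShape.up ℤ)).obj A.J ⟶ A'.J) (B : DualData T) (B' : DualData T')
    (hσ : ∀ M N : C, (B'.S.σ (a.obj M) (a.obj N)).hom ≫ (τ.app M).app N =
      (τ.app N).app M ≫ a.map (B.S.σ M N).hom)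
    (p : B.J ⟶ A.J) (hp : QuasiIso p) (p' : A'.J ⟶ B'.J) (hp' : QuasiIso p') (Q : CochainComplex C ℤ → Prop)
    (h : ∀ E, Q E → QuasiIso (BidCmp.cmp τ α E))
    (R : CochainComplex C ℤ ⥤ CochainComplex C' ℤ) (hR : R = a.mapHomologicalComplex (ComplexShape.up ℤ))
    (K : CochainComplex C ℤ) (hK : Q K) (hK' : Q (B.D K)) (hr : B.Refl K) : B'.Refl (R.obj K) := by
  subst hR
  obtain ⟨c, hc, hc'⟩ := BidCmpAbs538.exists_cmp τ A A' α B B' hσ p p' Q h
  have := hc' K hK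
  have := hc' _ hK'
  have := hr.qis
  have h0 : QuasiIso ((a.mapHomologicalComplex (ComplexShape.up ℤ)).map (B.ev K)) := inferInstance
  have h1 : QuasiIso (B'.ev ((a.mapHomologicalComplex (ComplexShape.up ℤ)).obj K) ≫ B'.Dmap (c K)) := by
    rw [← hc]
    infer_instance
  exact ⟨(quasiIso_iff_comp_right _ (B'.Dmap (c K))).1 h1⟩

end Abs

section Pull

open AlgebraicGeometry

attribute [local instance 5000] CategoryTheory.Abelian.toPreadditive
  CategoryTheory.Preadditive.preadditiveHasZeroMorphisms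

open scoped Groth.Agent.Sga4h.ModInst Groth.Agent.Sga4h.BidLimAcyc
open Groth.Agent Groth.Agent.Sga4h
open Groth.Agent.Sga4h.BidLimRep Groth.Agent.Sga4h.BidLimAb Groth.Agent.Sga4h.BidLimHom
  Groth.Agent.Sga4h.BidLimTheta
open Groth.Agent.EtpbcB Groth.Agent.Etrest.ModAb Groth.Agent.Etrest
open K973.RegCmp

attribute [local instance] HasDerivedCategory.standard
open Groth.Agent.Sga4h.Refl DerivedCategory BidIndLoc48 BidRed538Main BidCmp538LM BidLimAcyc BidTens

variable {Λ : Type (u + 1)} [CommRing Λ] {n : ℕ}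

theorem refl_aux [IsNoetherianRing Λ] {X Y : Scheme.{u}} [IsNoetherian X] {g : Y ⟶ X} (hΛ : (n : Λ) = 0)
    (hg : GoodT n g)
    (A : DualData (EtModD.tensorBi Λ X)) (A' : DualData (EtModD.tensorBi Λ Y))
    (hA : A.J.IsStrictlyGE 0) (hA' : A'.J.IsStrictlyGE 0)
    (α : ((EtModW.pull Λ g).mapHomologicalComplex (ComplexShape.up ℤ)).obj A.J ⟶ A'.J) (hα : QuasiIso α)
    (B : DualData (EtModD.tensorBi Λ X)) (B' : DualData (EtModD.tensorBi Λ Y))
    (hσ : ∀ M N : EtModW.Mod Λ X, (B'.S.σ ((EtModW.pull Λ g).obj M) ((EtModW.pull Λ g).obj N)).hom ≫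
      ((pullTensor Λ g).inv.app M).app N =
        ((pullTensor Λ g).inv.app N).app M ≫ (EtModW.pull Λ g).map (B.S.σ M N).hom)
    (p : B.J ⟶ A.J) (hp : QuasiIso p) (p' : A'.J ⟶ B'.J) (hp' : QuasiIso p')
    (K : CochainComplex (EtModW.Mod Λ X) ℤ) (hK : EtModD.IsDbc (Q.obj K)) (hK' : EtModD.IsDbc (Q.obj (B.D K)))
    (hr : B.Refl K) : B'.Refl ((R g).obj K) :=
  exists_refl (a := EtModW.pull Λ g) (pullTensor Λ g).inv A A' α B B' hσ p hp p' hp'
    (fun E => EtModD.IsDbc (Q.obj E)) (fun E hE => qis hΛ hg A A' 0 0 α E hE) (R g) rfl K hK hK' hr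

/-- Reflexivity of the inverse image. -/
theorem refl_pull [IsNoetherianRing Λ] {X Y : Scheme.{u}} (g : Y ⟶ X) (hX : IsNoetherian X) (hΛ : (n : Λ) = 0)
    (hg : GoodT n g) (K : CochainComplex (EtModW.Mod Λ X) ℤ) (hK : EtModD.IsDbc (Q.obj K))
    (hK' : EtModD.IsDbc (Q.obj ((stdDual Λ X).D K))) (hr : (stdDual Λ X).Refl K) :
    (stdDual Λ Y).Refl ((R g).obj K) := by
  obtain ⟨J, i, h1, h2, h3, h4⟩ := BidCmp538.exists_bdd (Λ := Λ) X
  obtain ⟨J', i', h1', h2', h3', h4'⟩ := BidCmp538.exists_bdd (Λ := Λ) Y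
  obtain ⟨α, hα⟩ := BidCmp538.exists_alpha g i i'
  obtain ⟨p, hp⟩ := BidEtCmp.exists_quasiIso_of_resolution (stdι Λ X) i
  have := isKInjective_stdJ Λ Y
  obtain ⟨p', hp'⟩ := BidEtCmp.exists_quasiIso_of_resolution i' (stdι Λ Y)
  obtain ⟨A, rfl⟩ : ∃ A : DualData (EtModD.tensorBi Λ X), A.J = J := ⟨DualEt.dualData J h2 h3, rfl⟩
  obtain ⟨A', rfl⟩ : ∃ A' : DualData (EtModD.tensorBi Λ Y), A'.J = J' := ⟨DualEt.dualData J' h2' h3', rfl⟩
  exact refl_aux hΛ hg A A' h1 h1' α hα (stdDual Λ X) (stdDual Λ Y)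
    (fun M N => pullTensor_inv_flip g M N) p hp p' hp' K hK hK' hr

end Pull

end K973.RegRefl
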